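import Cfsg.Agent.Lib.Block.FischerTypes.M24Up.Main
import Cfsg.Agent.Lib.Spor.M23Outer.Main
import Cfsg.Agent.S0280

/-!
A group with a subgroup of index two of large Fischer type, the centraliser of the central involution keeping its
generalised Fitting subgroup, is of type M(24).
-/

set_option autoImplicit false
set_option linter.style.haveILetI false
set_option linter.unusedSectionVars false

namespace Cfsg.Agent.Block.M24Up

open Cfsg Cfsg.Agent.Spor.ThreeTrans Cfsg.Agent.Block.FischerTypes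

/-- The sign of a subgroup of index two. -/
noncomputable def sign {X : Type*} [Group X] (G₀ : Subgroup X) (h : G₀.index = 2) : X →* ℤˣ := by
  classical
  exact
    { toFun := fun x => if x ∈ G₀ then 1 else -1
      map_one' := if_pos G₀.one_mem
      map_mul' := fun a b => by
        by_cases ha : a ∈ G₀ <;> by_cases hb : b ∈ G₀ <;>
          simp [ha, hb, Subgroup.mul_mem_iff_of_index_two h] }

theorem sign_out {X : Type*} [Group X] {G₀ : Subgroup X} (h : G₀.index = 2) {x : X} (hx : x ∉ G₀) :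
    sign G₀ h x = -1 := by
  classical
  show (if x ∈ G₀ then (1 : ℤˣ) else -1) = -1
  exact if_neg hx

/-- The order of the centraliser of the central involution is prime to eleven. -/
theorem not_eleven {G : Type*} [Group G] [Finite G] {z : G} {Q : Subgroup (Subgroup.centralizer ({z} : Set G))}
    [Q.Normal] (hF : IsOfLargeFischerTypeAt z Q) :
    ¬ 11 ∣ Nat.card ↥(Subgroup.centralizer ({z} : Set G)) := by
  obtain ⟨⟨-, -, -, hQ, -⟩, N, M, hNn, hMn, -, hNM, hN, ⟨K, iF, iT, hK, ⟨e⟩⟩, hM⟩ := hF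
  have hP : Nat.card (PSU 4 K 3) = 3265920 := by
    have h := Cfsg.Agent.S0280.result (F := K) (q := 3) (hK.trans (by norm_num)) 4 (by norm_num)
    norm_num [Finset.prod_range_succ, Nat.even_iff] at h
    omega
  have hMc : Nat.card M = 3265920 * (3 * 2 ^ (2 * 6 + 1)) := by
    rw [Subgroup.card_eq_card_quotient_mul_card_subgroup (N.subgroupOf M), Nat.card_congr e.toEquiv, hP,
      Nat.card_congr (Subgroup.subgroupOfEquivOfLe hNM).toEquiv, hN, hQ]
  rw [← M.card_mul_index, hM, hMc]
  norm_num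

/-- In a group of type M(23) members, and pairs of commuting members, are centralised by elements of order eleven. -/
theorem exists_eleven {M : Type*} [Group M] [Finite M] {E : Set M} (B : M23.Base E) {a : M} (ha : a ∈ E) :
    (∃ g, orderOf g = 11 ∧ Commute g a) ∧ ∀ b ∈ perp E a, ∃ g, orderOf g = 11 ∧ Commute g a ∧ Commute g b := by
  haveI : Fact (Nat.Prime 11) := ⟨by norm_num⟩
  have h := B.set.cls
  set H := Subgroup.centralizer ({a} : Set M)
  have hH : Nat.card ↥H = 2 * 64561751654400 := by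
    rw [show H = PerpGroup E a from M23.centralizer_eq B ha, M23.card_perpGroup B ha]
  constructor
  · obtain ⟨g, hg⟩ := exists_prime_orderOf_dvd_card' (G := ↥H) 11 (by rw [hH]; norm_num)
    exact ⟨g, by rw [← hg]; exact orderOf_injective H.subtype Subtype.val_injective g,
      Subgroup.mem_centralizer_singleton_iff.mp g.2⟩
  intro b hb
  let b' : ↥H := ⟨b, Subgroup.mem_centralizer_singleton_iff.mpr hb.2.2.symm.eq⟩
  have horb : MulAction.orbit (ConjAct ↥H) b' = {x : ↥H | (x : M) ∈ perp E a} := by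
    ext x
    rw [MulAction.mem_orbit_iff]
    constructor
    · rintro ⟨g, rfl⟩
      exact perp_conj' h (Subgroup.mem_centralizer_singleton_iff.mp (ConjAct.ofConjAct g).2) hb
    · intro hx
      obtain ⟨g, hg, e⟩ := transitive_perp B.set.hyp ha hb hx
      have hg' : g ∈ H := by rw [show H = PerpGroup E a from M23.centralizer_eq B ha]; exact hg
      exact ⟨ConjAct.toConjAct ⟨g, hg'⟩, Subtype.ext e⟩
  have hcard : {x : ↥H | (x : M) ∈ perp E a}.ncard = 3510 := by
    rw [← M23.card_perp B ha (M23.counts B a ha), ← Set.ncard_image_of_injective _ H.subtype_injective]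
    congr 1
    ext y
    exact ⟨by rintro ⟨x, hx, rfl⟩; exact hx,
      fun hy => ⟨⟨y, Subgroup.mem_centralizer_singleton_iff.mpr hy.2.2.symm.eq⟩, hy, rfl⟩⟩
  have hstab := M22.card_orbit b'
  rw [horb, hcard, hH] at hstab
  have hdiv : 11 ∣ Nat.card ↥(Subgroup.centralizer ({b'} : Set ↥H)) := by omega
  obtain ⟨g, hg⟩ := exists_prime_orderOf_dvd_card' (G := ↥(Subgroup.centralizer ({b'} : Set ↥H))) 11 hdiv
  refine ⟨((g : ↥H) : M), ?_, Subgroup.mem_centralizer_singleton_iff.mp (g : ↥H).2,
    congrArg Subtype.val (Subgroup.mem_centralizer_singleton_iff.mp g.2)⟩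
  rw [← hg]
  exact orderOf_injective (H.subtype.comp (Subgroup.centralizer ({b'} : Set ↥H)).subtype)
    (Subtype.val_injective.comp Subtype.val_injective) g

variable {X : Type*} [Group X] [Finite X] {G₀ : Subgroup X} {z : ↥G₀}
  {Q : Subgroup (Subgroup.centralizer ({z} : Set ↥G₀))} [hQn : Q.Normal]

theorem aut_type (hidx : G₀.index = 2) (hF : IsOfLargeFischerTypeAt z Q)
    (hcentral : ∃ P : Sylow 2 ↥G₀, z ∈ (P : Subgroup ↥G₀) ∧ ∀ x ∈ (P : Subgroup ↥G₀), Commute x z)
    (hFX : (Cfsg.generalizedFittingSubgroup ↥(Subgroup.centralizer ({(z : X)} : Set X))).map (Subgroup.subtype _) =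
      ((Q.map (Subgroup.subtype _)).map G₀.subtype))
    (h50 : Spor.M23Outer.NoncentralShape z Q) :
    ∃ E : Set X, IsThreeTranspositionClass E ∧ IsOfTypeM24 X E := by
  obtain ⟨d, hd, hdG, hdz, t, ht, htq, ⟨htn, he⟩, hnwc, hfix, hswap⟩ :=
    Spor.M23Outer.main hidx hF hcentral hFX h50
  obtain ⟨I⟩ := Block.M23Up.exists_ident ht htq he
  obtain ⟨hcls, h23, ⟨eM⟩⟩ := Block.M23Up.fi23_facts I hnwc
  -- primitivity, from simplicity
  have hmem : ∀ {x : ↥(G₀ ⊓ Subgroup.centralizer ({d} : Set X))}, x ∈ conjugatesOf t ↔ IsConj t x := Iff.rfl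
  have hne : (conjugatesOf t).Nonempty := ⟨t, IsConj.refl t⟩
  obtain ⟨g₁, hg₁, hg₁'⟩ := hnwc
  have hw : ∃ a ∈ conjugatesOf t, ∃ b ∈ conjugatesOf t, a ≠ b ∧ Commute a b :=
    ⟨t, IsConj.refl t, g₁ * t * g₁⁻¹, isConj_iff.mpr ⟨g₁, rfl⟩, hg₁'.symm,
      (show Commute (g₁ * t * g₁⁻¹) t from Subgroup.mem_centralizer_singleton_iff.mp hg₁).symm⟩
  haveI : Finite Spor.Fi23 := Finite.of_equiv ↥(G₀ ⊓ Subgroup.centralizer ({d} : Set X)) eM.toEquiv
  have hsimp : IsSimpleGroup ↥(G₀ ⊓ Subgroup.centralizer ({d} : Set X)) := by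
    haveI := M23.simple Block.M23Up.base_fi23 ⟨_, Block.M23Up.tz_mem⟩
    exact eM.isSimpleGroup_congr.mpr inferInstance
  have hcomm : commutator ↥(G₀ ⊓ Subgroup.centralizer ({d} : Set X)) = ⊤ := by
    refine ((inferInstance : (commutator ↥(G₀ ⊓ Subgroup.centralizer ({d} : Set X))).Normal).eq_bot_or_eq_top).resolve_left fun e => ?_
    obtain ⟨-, a, -, b, -, hab, -⟩ := id h23
    open scoped commutatorElement in
    have hm : ⁅a, b⁆ ∈ commutator ↥(G₀ ⊓ Subgroup.centralizer ({d} : Set X)) :=
      Subgroup.commutator_mem_commutator (Subgroup.mem_top a) (Subgroup.mem_top b)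
    rw [e, Subgroup.mem_bot] at hm
    exact hab (commutatorElement_eq_one_iff_commute.mp hm)
  have hprim : IsPrimitiveUnderConj (conjugatesOf t) := by
    refine (Spor.FischerStr.primitive_iff hcls h23.1 hw).1.mp ?_
    rw [hcomm]
    exact Subgroup.topEquiv.isSimpleGroup_congr.mpr hsimp
  have hgrp : IsThreeTranspositionGroup (conjugatesOf t) :=
    ⟨hcls.1, fun g _ hx => conj_mem hcls g hx, hcls.2.2⟩
  have B := M23.base hgrp hprim h23
  -- no element of order eleven centralises the central involution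
  have h11 : ∀ g : X, Commute g (z : X) → orderOf g ≠ 11 := by
    intro g hg h
    have hg2 : g ^ 2 ∈ G₀ := by rw [pow_two]; exact Subgroup.mul_self_mem_of_index_two hidx g
    refine not_eleven hF ?_
    have ho : orderOf (g ^ 2) = 11 := by
      rw [Nat.Coprime.orderOf_pow (by rw [h]; norm_num), h]
    have hc : (⟨g ^ 2, hg2⟩ : ↥G₀) ∈ Subgroup.centralizer ({z} : Set ↥G₀) :=
      Subgroup.mem_centralizer_singleton_iff.mpr (Subtype.ext (hg.pow_left 2).eq)
    have := orderOf_dvd_natCard (⟨_, hc⟩ : ↥(Subgroup.centralizer ({z} : Set ↥G₀)))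
    rwa [← orderOf_injective (G₀.subtype.comp (Subgroup.centralizer ({z} : Set ↥G₀)).subtype)
      (Subtype.val_injective.comp Subtype.val_injective), show (G₀.subtype.comp
      (Subgroup.centralizer ({z} : Set ↥G₀)).subtype) ⟨_, hc⟩ = g ^ 2 from rfl, ho] at this
  have lift : ∀ g : ↥(G₀ ⊓ Subgroup.centralizer ({d} : Set X)), orderOf g = 11 → orderOf (g : X) = 11 := fun g hg => by
    rw [← hg]; exact orderOf_injective (G₀ ⊓ Subgroup.centralizer ({d} : Set X)).subtype Subtype.val_injective g
  have htE : t ∈ conjugatesOf t := IsConj.refl t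
  let zM : ↥(G₀ ⊓ Subgroup.centralizer ({d} : Set X)) := ⟨z, z.2, Subgroup.mem_centralizer_singleton_iff.mpr hdz.symm.eq⟩
  have hzo : orderOf zM = 2 := by
    rw [← orderOf_injective (G₀ ⊓ Subgroup.centralizer ({d} : Set X)).subtype Subtype.val_injective]
    show orderOf (z : X) = 2
    rw [← hF.1.1]
    exact orderOf_injective G₀.subtype Subtype.val_injective z
  have htriple : ∀ y l, Fact' (conjugatesOf t) 3 y l → ¬ IsConj (t : X) (y : X) := by
    intro y l hl hc
    obtain ⟨m, h1, h3, l', hl'⟩ := M23.invol_fact B hne hzo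
    interval_cases m
    · obtain ⟨a, rfl⟩ := List.length_eq_one_iff.mp hl'.2.1
      have ea : a = zM := by simpa using hl'.2.2.2.2
      subst ea
      obtain ⟨⟨g, hg, hga⟩, -⟩ := exists_eleven B (hl'.2.2.1 zM (by simp))
      exact h11 g (hga.map (G₀ ⊓ Subgroup.centralizer ({d} : Set X)).subtype) (lift g hg)
    · obtain ⟨a, b, rfl⟩ := List.length_eq_two.mp hl'.2.1
      have hb : b ∈ perp (conjugatesOf t) a := ⟨hl'.2.2.1 b (by simp), fun k => by simpa [k] using hl'.1,
        hl'.2.2.2.1 a (by simp) b (by simp)⟩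
      obtain ⟨-, hpair⟩ := exists_eleven B (hl'.2.2.1 a (by simp))
      obtain ⟨g, hg, hga, hgb⟩ := hpair b hb
      refine h11 g ?_ (lift g hg)
      have : Commute g (a * b) := hga.mul_right hgb
      rw [show a * b = zM by simpa using hl'.2.2.2.2] at this
      exact this.map (G₀ ⊓ Subgroup.centralizer ({d} : Set X)).subtype
    · obtain ⟨k, hk⟩ := isConj_iff.mp
        (hc.trans (MonoidHom.map_isConj (G₀ ⊓ Subgroup.centralizer ({d} : Set X)).subtype (M23.fact_conj B (by norm_num) le_rfl ⟨l, hl⟩ ⟨l', hl'⟩)))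
      obtain ⟨⟨g, hg, hgt⟩, -⟩ := exists_eleven B htE
      refine h11 (k * g * k⁻¹) ?_ (by rw [Data.conj_order, lift g hg])
      rw [show (z : X) = k * (t : X) * k⁻¹ from hk.symm]
      exact (commute_conj_iff k _ _).mpr (hgt.map (G₀ ⊓ Subgroup.centralizer ({d} : Set X)).subtype)
  have S : Data (sign G₀ hidx) d (G₀ ⊓ Subgroup.centralizer ({d} : Set X)).subtype (conjugatesOf t) t :=
    { base := B
      typ := h23
      mem := htE
      inv := hd
      odd := sign_out hidx hdG
      inj := Subtype.val_injective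
      comm := fun y => (show Commute (y : X) d from Subgroup.mem_centralizer_singleton_iff.mp y.2.2).symm
      cover := fun g hg => by
        by_cases k : g ∈ G₀
        · exact ⟨⟨g, k, Subgroup.mem_centralizer_singleton_iff.mpr hg.eq⟩, Or.inl rfl⟩
        · have hdd : d * d = 1 := by rw [← pow_two, ← hd]; exact pow_orderOf_eq_one d
          refine ⟨⟨d * g, (Subgroup.mul_mem_iff_of_index_two hidx).mpr (iff_of_false hdG k),
            Subgroup.mem_centralizer_singleton_iff.mpr ((Commute.refl d).mul_left hg).eq⟩, Or.inr ?_⟩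
          show g = d * (d * g)
          rw [← mul_assoc, hdd, one_mul]
      swap := hswap
      fix := hfix
      triple := htriple }
  exact ⟨_, S.main⟩

end Cfsg.Agent.Block.M24Up
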