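import Cfsg.Agent.Lib.Block.FischerTypes.M24Up.Triangle
import Cfsg.Agent.Lib.Spor.FischerThm.MCaseTwentyThree
import Mathlib.Logic.Relation

/-!
The members joined to the involution by commuting members form a class of 3-transpositions of the group they
generate, of type M(24).
-/

set_option autoImplicit false
set_option linter.style.haveILetI false
set_option linter.unusedSectionVars false

namespace Cfsg.Agent.Block.M24Up

open Cfsg Cfsg.Agent.Spor.ThreeTrans Cfsg.Agent.Block.FischerTypes Relation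

variable {X : Type*} [Group X]

/-- Commuting members of the class. -/
def Link (d x y : X) : Prop := IsConj d x ∧ IsConj d y ∧ Commute x y

/-- The members joined to the involution. -/
def comp (d : X) : Set X := {x | ReflTransGen (Link d) d x}

/-- The group they generate. -/
abbrev compGroup (d : X) : Subgroup X := Subgroup.closure (comp d)

/-- The members inside that group. -/
def compSet (d : X) : Set ↥(compGroup d) := {x | (x : X) ∈ comp d}

theorem link_symm {d x y : X} (h : ReflTransGen (Link d) x y) : ReflTransGen (Link d) y x := by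
  induction h with
  | refl => exact .refl
  | tail _ hbc ih => exact ReflTransGen.head ⟨hbc.2.1, hbc.1, hbc.2.2.symm⟩ ih

theorem link_conj {d x y : X} (g : X) (h : ReflTransGen (Link d) x y) :
    ReflTransGen (Link d) (g * x * g⁻¹) (g * y * g⁻¹) := by
  induction h with
  | refl => exact .refl
  | tail _ hbc ih =>
    exact ih.tail ⟨hbc.1.trans (isConj_iff.mpr ⟨g, rfl⟩), hbc.2.1.trans (isConj_iff.mpr ⟨g, rfl⟩),
      (commute_conj_iff g _ _).mpr hbc.2.2⟩

theorem comp_self (d : X) : d ∈ comp d := ReflTransGen.refl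

theorem comp_sub {d x : X} (h : x ∈ comp d) : IsConj d x := by
  rcases ReflTransGen.cases_tail h with e | ⟨y, -, hy⟩
  · subst e; exact IsConj.refl _
  · exact hy.2.1

theorem comp_step {d x y : X} (h : x ∈ comp d) (hy : IsConj d y) (hc : Commute x y) : y ∈ comp d :=
  ReflTransGen.tail h ⟨comp_sub h, hy, hc⟩

theorem comp_invariant {d g : X} (hg : g ∈ compGroup d) {y : X} :
    (g * y * g⁻¹ ∈ comp d ↔ y ∈ comp d) := by
  induction hg using Subgroup.closure_induction generalizing y with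
  | mem x hx =>
    have h1 : ReflTransGen (Link d) d (x * d * x⁻¹) := by
      have := link_conj x (link_symm hx)
      rw [mul_inv_cancel_right] at this
      exact ReflTransGen.trans hx this
    constructor
    · intro h
      have := link_conj x⁻¹ ((link_symm h1).trans h)
      rwa [show x⁻¹ * (x * d * x⁻¹) * x⁻¹⁻¹ = d by group, show x⁻¹ * (x * y * x⁻¹) * x⁻¹⁻¹ = y by group] at this
    · exact fun h => h1.trans (link_conj x h)
  | one => simp
  | mul a b _ _ iha ihb =>
    rw [show a * b * y * (a * b)⁻¹ = a * (b * y * b⁻¹) * a⁻¹ by group, iha, ihb]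
  | inv a _ ih =>
    conv_rhs => rw [show y = a * (a⁻¹ * y * a⁻¹⁻¹) * a⁻¹ by group, ih]

variable {M : Type*} [Group M] [Finite X] [Finite M]
  {χ : X →* ℤˣ} {d : X} {ι : M →* X} {E : Set M} {e₀ : M}

namespace Data

variable (S : Data χ d ι E e₀)
include S

theorem eta_comp {e : M} (he : e ∈ E) : d * ι e ∈ comp d :=
  comp_step (comp_self d) (S.eta_mem he) (S.d_eta e)

/-- At one member two members commute or braid. -/
theorem world_three {u x y : X} (hu : IsConj d u) (hx : IsConj d x) (hy : IsConj d y) (xu : Commute u x)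
    (yu : Commute u y) : Commute x y ∨ x * y * x = y * x * y := by
  by_cases e1 : x = u
  · exact Or.inl (e1 ▸ yu)
  by_cases e2 : y = u
  · exact Or.inl (e2 ▸ xu.symm)
  obtain ⟨g, rfl⟩ := isConj_iff.mp hu
  obtain ⟨α, hα, rfl⟩ := S.near hx xu e1
  obtain ⟨β, hβ, rfl⟩ := S.near hy yu e2
  by_cases k : Commute α β
  · exact Or.inl ((commute_conj_iff _ _ _).mpr (S.eta_commute.mpr k))
  refine Or.inr ?_
  have hb := braid S.base.set.cls.1 hα hβ k
  have e : ∀ p q : M, d * ι p * (d * ι q) * (d * ι p) = d * ι (p * q * p) := fun p q => by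
    rw [S.eta_mul, ← mul_assoc, ← (S.comm _).eq, mul_assoc, ← map_mul]
  rw [show g * (d * ι α) * g⁻¹ * (g * (d * ι β) * g⁻¹) * (g * (d * ι α) * g⁻¹) =
      g * (d * ι α * (d * ι β) * (d * ι α)) * g⁻¹ by group,
    show g * (d * ι β) * g⁻¹ * (g * (d * ι α) * g⁻¹) * (g * (d * ι β) * g⁻¹) =
      g * (d * ι β * (d * ι α) * (d * ι β)) * g⁻¹ by group, e, e, hb]

/-- Two joined members commute or braid. -/
theorem comp_three {x y : X} (hx : x ∈ comp d) (hy : y ∈ comp d) : Commute x y ∨ x * y * x = y * x * y := by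
  have key : ∀ z, ReflTransGen (Link d) x z → Commute x z ∨ x * z * x = z * x * z := by
    intro z hz
    induction hz with
    | refl => exact Or.inl (Commute.refl x)
    | @tail b c _ hbc ih =>
      by_cases ebc : b = c
      · exact ebc ▸ ih
      by_cases kb : Commute x b
      · exact S.world_three hbc.1 (comp_sub hx) hbc.2.1 kb.symm hbc.2.2
      by_cases kc : Commute x c
      · exact Or.inl kc
      rcases S.dich' hbc.1 hbc.2.1 (comp_sub hx) hbc.2.2 ebc with k | k | ⟨-, k⟩
      · exact absurd k kb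
      · exact absurd k kc
      · exact Or.inr (S.square hbc.1 hbc.2.1 (comp_sub hx) hbc.2.2 (ih.resolve_left kb).symm kc k).symm
  exact key y ((link_symm hx).trans hy)

/-- For two commuting members a third apart from both. -/
theorem bridge {x y : X} (hx : IsConj d x) (hy : IsConj d y) (hc : Commute x y) (hne : x ≠ y) :
    ∃ u w, IsConj d u ∧ IsConj d w ∧ Commute x u ∧ Commute u w ∧ ¬ Commute x w ∧ ¬ Commute y w := by
  have h := S.base.set.cls
  obtain ⟨g, rfl, rfl⟩ := S.std_normal (S.std_of_commute hx hy hc hne)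
  obtain ⟨e', he'⟩ := S.base.set.perp_ne e₀ S.mem
  obtain ⟨k, hk⟩ := isConj_iff.mp (conj_cls (S.eta_mem he'.1) g)
  have kd : Commute (g * d * g⁻¹) (k * d * k⁻¹) := by
    rw [hk]; exact (commute_conj_iff _ _ _).mpr (S.d_eta e')
  have ke : Commute (g * (d * ι e₀) * g⁻¹) (k * d * k⁻¹) := by
    rw [hk]; exact (commute_conj_iff _ _ _).mpr (S.eta_commute.mpr he'.2.2)
  have n1 : g * d * g⁻¹ ≠ k * d * k⁻¹ := fun e => S.eta_ne he'.1 (mul_left_cancel (mul_right_cancel (e.trans hk).symm))
  have n2 : g * (d * ι e₀) * g⁻¹ ≠ k * d * k⁻¹ := fun e =>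
    he'.2.1 (S.eta_inj (mul_left_cancel (mul_right_cancel (e.trans hk).symm)))
  obtain ⟨α, hα, eα⟩ := S.near hx kd.symm n1
  obtain ⟨β, hβ, eβ⟩ := S.near hy ke.symm n2
  obtain ⟨γ, hγ, hγ'⟩ : ∃ γ ∈ E, γ ∉ perp E α ∪ perp E β ∪ {α, β} := by
    by_contra hno
    push Not at hno
    have h1 := Set.ncard_le_ncard (s := E) (t := perp E α ∪ perp E β ∪ {α, β}) hno (Set.toFinite _)
    have h2 := Set.ncard_union_le (perp E α ∪ perp E β) {α, β}
    have h3 := Set.ncard_union_le (perp E α) (perp E β)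
    have h4 : ({α, β} : Set M).ncard ≤ 2 := (Set.ncard_insert_le _ _).trans (by rw [Set.ncard_singleton])
    have h5 := M23.card_perp S.base hα (M23.counts S.base α hα)
    have h6 := M23.card_perp S.base hβ (M23.counts S.base β hβ)
    have h7 := M23.total S.base S.nonempty (M23.counts S.base)
    omega
  simp only [Set.mem_union, Set.mem_insert_iff, Set.mem_singleton_iff, not_or] at hγ'
  refine ⟨k * d * k⁻¹, k * (d * ι γ) * k⁻¹, isConj_iff.mpr ⟨k, rfl⟩, conj_cls (S.eta_mem hγ) k, kd,
    (commute_conj_iff _ _ _).mpr (S.d_eta γ), ?_, ?_⟩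
  · rw [eα, commute_conj_iff, S.eta_commute]
    exact fun c => hγ'.1.1 ⟨hγ, hγ'.2.1, c⟩
  · rw [eβ, commute_conj_iff, S.eta_commute]
    exact fun c => hγ'.1.2 ⟨hγ, hγ'.2.2, c⟩

/-- Joined members are conjugate in the group they generate. -/
theorem comp_transitive {x : X} (hx : x ∈ comp d) : ∃ h ∈ compGroup d, h * d * h⁻¹ = x := by
  have move : ∀ {y w : X}, y ∈ comp d → w ∈ comp d → ¬ Commute y w → ∀ {h : X}, h ∈ compGroup d →
      h * d * h⁻¹ = y → ∃ h' ∈ compGroup d, h' * d * h'⁻¹ = w := by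
    intro y w hy hw hn h hh e
    refine ⟨y * w * h, mul_mem (mul_mem (Subgroup.subset_closure hy) (Subgroup.subset_closure hw)) hh, ?_⟩
    have hb := (S.comp_three hy hw).resolve_left hn
    rw [show y * w * h * d * (y * w * h)⁻¹ = y * w * (h * d * h⁻¹) * (w⁻¹ * y⁻¹) by group, e,
      S.inv_cls (comp_sub hy), S.inv_cls (comp_sub hw), hb]
    simp only [mul_assoc]
    rw [← mul_assoc w w, S.sq (comp_sub hw), one_mul, S.sq (comp_sub hy), mul_one]
  induction hx with
  | refl => exact ⟨1, one_mem _, by group⟩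
  | @tail b c hb hbc ih =>
    obtain ⟨h, hh, e⟩ := ih
    by_cases ebc : b = c
    · exact ⟨h, hh, e.trans ebc⟩
    obtain ⟨u, w, hu, hw, ku, kw, n1, n2⟩ := S.bridge hbc.1 hbc.2.1 hbc.2.2 ebc
    have hb' : b ∈ comp d := hb
    have hw' := comp_step (comp_step hb' hu ku) hw kw
    obtain ⟨h', hh', e'⟩ := move hb' hw' n1 hh e
    exact move hw' (comp_step hb' hbc.2.1 hbc.2.2) (fun k => n2 k.symm) hh' e'

theorem iota_comp (y : M) : ι y ∈ compGroup d := by
  have hy : y ∈ Subgroup.closure E := S.base.set.cls.2.2 ▸ Subgroup.mem_top y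
  refine (Subgroup.closure_le ((compGroup d).comap ι)).mpr ?_ hy
  intro e he
  rw [SetLike.mem_coe, Subgroup.mem_comap, ← S.d_mul_eta e]
  exact mul_mem (Subgroup.subset_closure (comp_self d)) (Subgroup.subset_closure (S.eta_comp he))

theorem cent_comp {g : X} (hg : Commute g d) : g ∈ compGroup d := by
  obtain ⟨y, rfl | rfl⟩ := S.cover g hg
  exacts [S.iota_comp y, mul_mem (Subgroup.subset_closure (comp_self d)) (S.iota_comp y)]

/-- An element carrying the involution to a joined member is in the group. -/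
theorem stab {g : X} (hg : g * d * g⁻¹ ∈ comp d) : g ∈ compGroup d := by
  obtain ⟨h, hh, e⟩ := S.comp_transitive hg
  have hc : Commute (h⁻¹ * g) d := by
    refine mul_inv_eq_iff_eq_mul.mp ?_
    rw [show h⁻¹ * g * d * (h⁻¹ * g)⁻¹ = h⁻¹ * (g * d * g⁻¹) * h by group, ← e]
    group
  have := mul_mem hh (S.cent_comp hc)
  rwa [mul_inv_cancel_left] at this

omit [Finite X] [Finite M] S in
theorem delta_mem : (⟨d, Subgroup.subset_closure (comp_self d)⟩ : ↥(compGroup d)) ∈ compSet d := comp_self d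

theorem compSet_class : IsThreeTranspositionClass (compSet d) := by
  refine ⟨⟨fun x hx => ?_, fun x hx y hy => ?_⟩, ⟨_, delta_mem, Set.ext fun x => ?_⟩, ?_⟩
  · rw [← orderOf_injective (compGroup d).subtype Subtype.val_injective]
    obtain ⟨g, e⟩ := isConj_iff.mp (comp_sub hx)
    show orderOf (x : X) = 2
    rw [← e, conj_order, S.inv]
  · have hx1 := S.sq (comp_sub hx)
    have hy1 := S.sq (comp_sub hy)
    rcases S.comp_three hx hy with k | k
    · refine Or.inl (Subtype.ext ?_)
      rw [Subgroup.coe_pow, Subgroup.coe_mul, k.mul_pow, pow_two, pow_two, hx1, hy1, one_mul]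
      rfl
    · refine Or.inr (Subtype.ext ?_)
      rw [Subgroup.coe_pow, Subgroup.coe_mul, pow_three, Subgroup.coe_one]
      calc (x : X) * y * ((x : X) * y * ((x : X) * y)) = (x : X) * y * x * ((y : X) * x * y) := by
            simp only [mul_assoc]
        _ = (y : X) * x * (y * y) * x * y := by rw [k]; simp only [mul_assoc]
        _ = 1 := by rw [hy1, mul_one, mul_assoc (y : X) x x, hx1, mul_one, hy1]
  · constructor
    · intro hx
      obtain ⟨h, hh, e⟩ := S.comp_transitive hx
      exact isConj_iff.mpr ⟨⟨h, hh⟩, Subtype.ext e⟩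
    · intro hx
      obtain ⟨⟨h, hh⟩, e⟩ := isConj_iff.mp (show IsConj _ x from hx)
      show (x : X) ∈ comp d
      rw [← e]
      exact (comp_invariant hh).mpr (comp_self d)
  · refine Subgroup.map_injective (compGroup d).subtype_injective ?_
    rw [MonoidHom.map_closure, ← MonoidHom.range_eq_map, Subgroup.range_subtype]
    congr 1
    ext x
    exact ⟨by rintro ⟨y, hy, rfl⟩; exact hy, fun hx => ⟨⟨x, Subgroup.subset_closure hx⟩, hx, rfl⟩⟩

/-- A member of the class is not central. -/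
theorem exists_apart : ∃ w ∈ comp d, ¬ Commute d w := by
  obtain ⟨u, w, hu, hw, ku, kw, n1, -⟩ :=
    S.bridge (IsConj.refl d) (S.eta_mem S.mem) (S.d_eta e₀) (S.eta_ne S.mem).symm
  exact ⟨w, comp_step (comp_step (comp_self d) hu ku) hw kw, n1⟩

theorem center_comp : Subgroup.center ↥(compGroup d) = ⊥ := by
  refine (Subgroup.eq_bot_iff_forall _).mpr fun z hz => ?_
  have hc : ∀ g ∈ compGroup d, Commute g (z : X) := fun g hg =>
    congrArg Subtype.val (Subgroup.mem_center_iff.mp hz ⟨g, hg⟩)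
  have hyc : ∀ y : M, (∀ k, Commute (ι k) (ι y)) → y = 1 := fun y hy => by
    have : y ∈ Subgroup.center M := Subgroup.mem_center_iff.mpr fun k => S.inj (by
      rw [map_mul, map_mul]; exact (hy k).eq)
    rwa [S.base.cen, Subgroup.mem_bot] at this
  obtain ⟨y, hy | hy⟩ := S.cover z (hc d (Subgroup.subset_closure (comp_self d))).symm
  · exact Subtype.ext (hy.trans (by rw [hyc y fun k => hy ▸ hc _ (S.iota_comp k), map_one]; rfl))
  · have e : y = 1 := hyc y fun k => by
      have := (S.comm k).symm.inv_right.mul_right (hc _ (S.iota_comp k))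
      rwa [hy, inv_mul_cancel_left] at this
    rw [e, map_one, mul_one] at hy
    obtain ⟨w, hw, hn⟩ := S.exists_apart
    exact absurd (hy ▸ hc w (Subgroup.subset_closure hw)).symm hn

/-- The group has no nontrivial normal subgroup of prime power order. -/
theorem no_pgroup {p : ℕ} [Fact p.Prime] {N : Subgroup ↥(compGroup d)} (hN : N.Normal) (hNp : IsPGroup p ↥N) :
    N = ⊥ := by
  classical
  haveI := M23.simple S.base S.nonempty
  set δ : ↥(compGroup d) := ⟨d, Subgroup.subset_closure (comp_self d)⟩ with hδ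
  have hδδ : δ * δ = 1 := Subtype.ext S.dd
  let N' : Subgroup M := N.comap (ι.codRestrict (compGroup d) S.iota_comp)
  haveI hN'n : N'.Normal := hN.comap _
  have hN' : N' = ⊥ := by
    refine hN'n.eq_bot_or_eq_top.resolve_right fun e => ?_
    have hM : IsPGroup p ↥N' := hNp.comap_of_injective _ fun a b k => S.inj (congrArg Subtype.val k)
    have hM' : IsPGroup p M := (e ▸ hM).of_equiv Subgroup.topEquiv
    haveI : Nontrivial M := inferInstance
    haveI := hM'.center_nontrivial
    exact not_nontrivial_iff_subsingleton.mpr inferInstance (S.base.cen ▸ ‹Nontrivial ↥(Subgroup.center M)›)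
  have hinner : ∀ y, (⟨ι y, S.iota_comp y⟩ : ↥(compGroup d)) ∈ N → y = 1 := fun y hy => by
    have : y ∈ N' := hy
    rwa [hN', Subgroup.mem_bot] at this
  have hfix : ∀ n ∈ N, Commute (n : X) d → n = 1 := by
    intro n hn hc
    obtain ⟨y, hy | hy⟩ := S.cover n hc
    · have e : n = ⟨ι y, S.iota_comp y⟩ := Subtype.ext hy
      have h1 : y = 1 := hinner y (e ▸ hn)
      subst h1
      exact e.trans (Subtype.ext (map_one ι))
    exfalso
    have hy1 : y = 1 := by
      have : y ∈ Subgroup.center M := Subgroup.mem_center_iff.mpr fun k => by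
        have hm : (⟨ι k, S.iota_comp k⟩ * n * (⟨ι k, S.iota_comp k⟩ : ↥(compGroup d))⁻¹ * n⁻¹) ∈ N :=
          mul_mem (hN.conj_mem n hn _) (inv_mem hn)
        have e : ⟨ι k, S.iota_comp k⟩ * n * (⟨ι k, S.iota_comp k⟩ : ↥(compGroup d))⁻¹ * n⁻¹ =
            ⟨ι (k * y * k⁻¹ * y⁻¹), S.iota_comp _⟩ := Subtype.ext (by
          simp only [Subgroup.coe_mul, Subgroup.coe_inv, hy]
          rw [S.eta_conj, mul_inv_rev, ← map_inv, ← mul_assoc, mul_assoc d, ← map_mul, S.d_inv,
            mul_assoc, ← (S.comm _).eq, ← mul_assoc, S.dd, one_mul])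
        rw [e] at hm
        have := hinner _ hm
        rw [mul_inv_eq_one, mul_inv_eq_iff_eq_mul] at this
        exact this
      rwa [S.base.cen, Subgroup.mem_bot] at this
    rw [hy1, map_one, mul_one] at hy
    have hdN : δ ∈ N := by rwa [show δ = n from Subtype.ext hy.symm]
    have htop : N = ⊤ := by
      rw [eq_top_iff, ← S.compSet_class.2.2, Subgroup.closure_le]
      intro x hx
      obtain ⟨h, hh, e⟩ := S.comp_transitive hx
      have := hN.conj_mem δ hdN ⟨h, hh⟩
      rwa [show x = ⟨h, hh⟩ * δ * (⟨h, hh⟩ : ↥(compGroup d))⁻¹ from Subtype.ext e.symm]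
    have : N' = ⊤ := eq_top_iff.mpr fun y _ => show _ ∈ N from htop ▸ Subgroup.mem_top _
    rw [hN'] at this
    exact bot_ne_top this
  have hinv : ∀ n ∈ N, δ * n * δ⁻¹ = n⁻¹ := by
    let f : ↥N → ↥N := fun n => ⟨(n : ↥(compGroup d))⁻¹ * (δ * n * δ⁻¹), mul_mem (inv_mem n.2) (hN.conj_mem n n.2 δ)⟩
    have hf : Function.Injective f := by
      rintro ⟨n, hn⟩ ⟨m, hm⟩ e
      have e' : n⁻¹ * (δ * n * δ⁻¹) = m⁻¹ * (δ * m * δ⁻¹) := congrArg Subtype.val e
      have h1 : δ * (m * n⁻¹) * δ⁻¹ = m * n⁻¹ := by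
        calc δ * (m * n⁻¹) * δ⁻¹ = m * (m⁻¹ * (δ * m * δ⁻¹)) * (δ * n * δ⁻¹)⁻¹ := by group
          _ = m * (n⁻¹ * (δ * n * δ⁻¹)) * (δ * n * δ⁻¹)⁻¹ := by rw [e']
          _ = m * n⁻¹ := by group
      have h2 : Commute δ (m * n⁻¹) := mul_inv_eq_iff_eq_mul.mp h1
      exact Subtype.ext (mul_inv_eq_one.mp (hfix _ (mul_mem hm (inv_mem hn)) (h2.map (compGroup d).subtype).symm)).symm
    intro n hn
    obtain ⟨⟨x, hx⟩, ex⟩ := (Finite.injective_iff_surjective.mp hf) ⟨n, hn⟩
    have e : x⁻¹ * (δ * x * δ⁻¹) = n := congrArg Subtype.val ex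
    rw [← e, show δ * (x⁻¹ * (δ * x * δ⁻¹)) * δ⁻¹ = δ * x⁻¹ * δ * x * (δ * δ)⁻¹ by group, hδδ, inv_one, mul_one]
    conv_lhs => rw [show δ * x⁻¹ * δ * x = δ * x⁻¹ * (δ⁻¹ : ↥(compGroup d)) * x by
      rw [inv_eq_of_mul_eq_one_right hδδ]]
    group
  have hinv' : ∀ (h : ↥(compGroup d)) (n), n ∈ N → h * δ * h⁻¹ * n * (h * δ * h⁻¹)⁻¹ = n⁻¹ := fun h n hn => by
    have := hinv (h⁻¹ * n * h) (by simpa using hN.conj_mem n hn h⁻¹)
    rw [show h * δ * h⁻¹ * n * (h * δ * h⁻¹)⁻¹ = h * (δ * (h⁻¹ * n * h) * δ⁻¹) * h⁻¹ by group, this]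
    group
  refine (Subgroup.eq_bot_iff_forall N).mpr fun n hn => hfix n hn ?_
  obtain ⟨h, hh, e⟩ := S.comp_transitive (S.eta_comp S.mem)
  set ε : ↥(compGroup d) := ⟨h, hh⟩ * δ * (⟨h, hh⟩ : ↥(compGroup d))⁻¹ with hε
  have hcn : Commute (δ * ε) n := by
    refine mul_inv_eq_iff_eq_mul.mp ?_
    rw [show δ * ε * n * (δ * ε)⁻¹ = δ * (ε * n * ε⁻¹) * δ⁻¹ by group, hε, hinv' _ n hn, hinv _ (inv_mem hn), inv_inv]
  have hι : Commute (ι e₀) (n : X) := by
    have := hcn.map (compGroup d).subtype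
    simp only [map_mul, Subgroup.coe_subtype] at this
    rwa [show ((ε : ↥(compGroup d)) : X) = d * ι e₀ from e, S.d_mul_eta] at this
  set x := (n : X) * d * (n : X)⁻¹ with hx
  have hxD : IsConj d x := isConj_iff.mpr ⟨_, rfl⟩
  have hxι : Commute x (d * (d * ι e₀)) := by
    rw [S.d_mul_eta]
    exact (hι.symm.mul_left (S.comm e₀)).mul_left hι.symm.inv_left
  have hxd := S.no_swap (IsConj.refl d) (S.eta_mem S.mem) hxD (S.d_eta e₀) (S.eta_ne S.mem).symm hxι
  have hd : d * (n : X) * d⁻¹ = (n : X)⁻¹ := congrArg Subtype.val (hinv n hn)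
  have e2 : x = (n * n : ↥(compGroup d)) * d := by
    have : d * (n : X)⁻¹ = (n : X) * d := by
      rw [← hd, S.d_inv, ← mul_assoc, ← mul_assoc, S.dd, one_mul]
    rw [hx, mul_assoc, this, Subgroup.coe_mul, ← mul_assoc]
  have hn2 : Commute ((n * n : ↥(compGroup d)) : X) d := by
    have := hxd.mul_left (Commute.refl d).inv_left
    rwa [e2, mul_inv_cancel_right] at this
  have h2 := hfix _ (mul_mem hn hn) hn2
  refine (mul_inv_eq_iff_eq_mul.mp ?_ : Commute d (n : X)).symm
  rw [hd]
  exact inv_eq_of_mul_eq_one_right (congrArg Subtype.val h2)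

/-- The members next to the involution inside the group. -/
theorem perp_comp : (compGroup d).subtype '' perp (compSet d) ⟨d, Subgroup.subset_closure (comp_self d)⟩ =
    (fun e => d * ι e) '' E := by
  ext y
  constructor
  · rintro ⟨y, ⟨hy, hne, hc⟩, rfl⟩
    obtain ⟨e, he, k⟩ := S.std_base.mp (S.std_of_commute (IsConj.refl d) (comp_sub hy) (congrArg Subtype.val hc.eq)
      fun k => hne (Subtype.ext k.symm))
    exact ⟨e, he, k.symm⟩
  · rintro ⟨e, he, rfl⟩
    exact ⟨⟨_, Subgroup.subset_closure (S.eta_comp he)⟩, ⟨S.eta_comp he, fun k => S.eta_ne he (congrArg Subtype.val k),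
      Subtype.ext (S.d_eta e).eq⟩, rfl⟩

/-- The group of type M(23) is the perpendicular quotient at the involution. -/
theorem quot_comp : ∃ σ : M ≃* PerpQuot (compSet d) ⟨d, Subgroup.subset_closure (comp_self d)⟩,
    σ '' E = perpSet (compSet d) ⟨d, Subgroup.subset_closure (comp_self d)⟩ := by
  classical
  set δ : ↥(compGroup d) := ⟨d, Subgroup.subset_closure (comp_self d)⟩
  set P := PerpGroup (compSet d) δ
  set C := Subgroup.closure ((fun e => d * ι e) '' E)
  have hP : P.map (compGroup d).subtype = C := by rw [MonoidHom.map_closure, S.perp_comp]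
  have hin : ∀ g : ↥(compGroup d), (g : X) ∈ C → g ∈ P := fun g hg => by
    rw [← hP] at hg
    obtain ⟨g', hg', e⟩ := hg
    rwa [← show g' = g from Subtype.ext e]
  have hη : ∀ e ∈ E, d * ι e ∈ C := fun e he => Subgroup.subset_closure ⟨e, he, rfl⟩
  have hdl : ∀ l : List M, (l.map fun e => d * ι e).prod = d ^ l.length * ι l.prod := by
    intro l
    induction l with
    | nil => simp
    | cons a l ih =>
      rw [List.map_cons, List.prod_cons, ih, List.length_cons, List.prod_cons, map_mul, pow_succ',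
        mul_assoc d (ι a), ← mul_assoc (ι a), ((S.comm a).symm.pow_right l.length).eq]
      simp only [mul_assoc]
  have hdC : d ∈ C := by
    obtain ⟨m, hlen, hm, hp⟩ := M23.six S.base S.mem
    have : (m.map fun e => d * ι e).prod ∈ C := list_prod_mem fun x hx => by
      obtain ⟨e, he, rfl⟩ := List.mem_map.mp hx
      exact hη e (hm e he).1
    rw [hdl, hlen, hp, show d ^ 6 = 1 by rw [show (6 : ℕ) = 2 * 3 from rfl, pow_mul, pow_two, S.dd, one_pow],
      one_mul] at this
    have := mul_mem (hη e₀ S.mem) this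
    rwa [mul_assoc, S.iota_sq S.mem, mul_one] at this
  have hιC : ∀ y, ι y ∈ C := fun y => by
    have hy : y ∈ Subgroup.closure E := S.base.set.cls.2.2 ▸ Subgroup.mem_top y
    refine (Subgroup.closure_le (C.comap ι)).mpr ?_ hy
    intro e he
    rw [SetLike.mem_coe, Subgroup.mem_comap, ← S.d_mul_eta e]
    exact mul_mem hdC (hη e he)
  let φ₀ : M →* ↥P := (ι.codRestrict (compGroup d) S.iota_comp).codRestrict P fun y => hin _ (hιC y)
  let φ : M →* PerpQuot (compSet d) δ := (QuotientGroup.mk' _).comp φ₀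
  have hδP : δ ∈ P := hin δ hdC
  have hδ1 : (QuotientGroup.mk (⟨δ, hδP⟩ : ↥P) : PerpQuot (compSet d) δ) = 1 := by
    refine (QuotientGroup.eq_one_iff _).mpr (Subgroup.mem_center_iff.mpr fun g => Subtype.ext ?_)
    exact (commute_all (fun x hx => hx.2.2.symm) g.2).eq
  have hpr : ∀ e, ∀ he : e ∈ E, ∀ hu : (⟨d * ι e, Subgroup.subset_closure (S.eta_comp he)⟩ : ↥(compGroup d)) ∈
      perp (compSet d) δ, φ e = pr (compSet d) δ _ hu := by
    intro e he hu
    have hmul : (⟨⟨d * ι e, Subgroup.subset_closure (S.eta_comp he)⟩, Subgroup.subset_closure hu⟩ : ↥P) =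
        ⟨δ, hδP⟩ * φ₀ e := Subtype.ext (Subtype.ext rfl)
    show φ e = QuotientGroup.mk _
    rw [hmul, QuotientGroup.mk_mul, hδ1, one_mul]
    rfl
  have hperp : ∀ u ∈ perp (compSet d) δ, ∃ e ∈ E, (u : X) = d * ι e := fun u hu => by
    obtain ⟨e, he, k⟩ := (Set.ext_iff.mp S.perp_comp (u : X)).mp ⟨u, hu, rfl⟩
    exact ⟨e, he, k.symm⟩
  have himg : φ '' E = perpSet (compSet d) δ := by
    ext x
    constructor
    · rintro ⟨e, he, rfl⟩
      have hu : (⟨d * ι e, Subgroup.subset_closure (S.eta_comp he)⟩ : ↥(compGroup d)) ∈ perp (compSet d) δ :=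
        ⟨S.eta_comp he, fun k => S.eta_ne he (congrArg Subtype.val k), Subtype.ext (S.d_eta e).eq⟩
      rw [hpr e he hu]
      exact pr_mem hu
    · intro hx
      obtain ⟨u, hu, rfl⟩ := exists_of_mem hx
      obtain ⟨e, he, k⟩ := hperp u hu
      have eu : u = ⟨d * ι e, Subgroup.subset_closure (S.eta_comp he)⟩ := Subtype.ext k
      subst eu
      exact ⟨e, he, hpr e he hu⟩
  have hinj : Function.Injective φ := by
    rw [injective_iff_map_eq_one]
    intro y hy
    have hz := (QuotientGroup.eq_one_iff _).mp hy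
    have hc : y ∈ Subgroup.center M := by
      rw [← Subgroup.centralizer_univ, ← Subgroup.coe_top, ← S.base.set.cls.2.2, Subgroup.centralizer_closure]
      rw [Subgroup.mem_centralizer_iff]
      intro e he
      refine S.inj ?_
      rw [map_mul, map_mul]
      have h1 : Commute (d * ι e) (ι y) := congrArg Subtype.val
        (commute_of_center hz (hin ⟨d * ι e, Subgroup.subset_closure (S.eta_comp he)⟩ (hη e he))).eq
      have h2 := (S.comm y).mul_left h1
      rwa [S.d_mul_eta] at h2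
    rwa [S.base.cen, Subgroup.mem_bot] at hc
  have hsurj : Function.Surjective φ := by
    rw [← MonoidHom.range_eq_top, eq_top_iff, ← closure_perpSet (D := compSet d), Subgroup.closure_le, ← himg]
    rintro _ ⟨e, -, rfl⟩
    exact ⟨e, rfl⟩
  exact ⟨MulEquiv.ofBijective φ ⟨hinj, hsurj⟩, himg⟩

/-- The joined members are a class of type M(24) in their group. -/
theorem comp_type : IsOfTypeM24 ↥(compGroup d) (compSet d) ∧ M24.Base (compSet d) := by
  classical
  set δ : ↥(compGroup d) := ⟨d, Subgroup.subset_closure (comp_self d)⟩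
  have hδ : δ ∈ compSet d := comp_self d
  have h := S.compSet_class
  have hcen := S.center_comp
  haveI : Fact (Nat.Prime 2) := ⟨Nat.prime_two⟩
  haveI : Fact (Nat.Prime 3) := ⟨Nat.prime_three⟩
  have h2 : pCore 2 ↥(compGroup d) = ⊥ :=
    S.no_pgroup (Transfer.pCore_normal' 2 _) (Transfer.pCore_isPGroup 2 _)
  have h3 : pCore 3 ↥(compGroup d) = ⊥ :=
    S.no_pgroup (Transfer.pCore_normal' 3 _) (Transfer.pCore_isPGroup 3 _)
  have hε : (⟨d * ι e₀, Subgroup.subset_closure (S.eta_comp S.mem)⟩ : ↥(compGroup d)) ∈ compSet d :=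
    S.eta_comp S.mem
  have hw : ∃ a ∈ compSet d, ∃ b ∈ compSet d, a ≠ b ∧ Commute a b :=
    ⟨δ, hδ, _, hε, fun k => S.eta_ne S.mem (congrArg Subtype.val k).symm, Subtype.ext (S.d_eta e₀).eq⟩
  have hconn : (commutingGraph (compSet d)).Connected := by
    refine SimpleGraph.connected_iff_exists_forall_reachable _ |>.mpr ⟨⟨δ, hδ⟩, fun ⟨⟨x, hxH⟩, hx⟩ => ?_⟩
    have key : ∀ y, ReflTransGen (Link d) d y → ∀ (hy : y ∈ comp d),
        (commutingGraph (compSet d)).Reachable ⟨δ, hδ⟩ ⟨⟨y, Subgroup.subset_closure hy⟩, hy⟩ := by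
      intro y hy
      induction hy with
      | refl => exact fun _ => SimpleGraph.Reachable.refl _
      | @tail b c hb hbc ih =>
        intro hc
        by_cases e : b = c
        · subst e; exact ih hc
        refine (ih hb).trans (SimpleGraph.Adj.reachable ⟨fun k => e ?_, Or.inl (Subtype.ext hbc.2.2.eq)⟩)
        exact congrArg Subtype.val (congrArg Subtype.val k)
    exact key x hx hx
  have hp : IsPrimitiveUnderConj (compSet d) :=
    (Spor.FischerStr.primitive_iff h hcen hw).2.mpr ⟨h2, h3, hconn⟩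
  have g := Spor.FischerThm.good_of_prim h hp hcen hw
  obtain ⟨σ, hσ⟩ := S.quot_comp
  haveI hM := M23.simple S.base S.nonempty
  have hq : ∀ a ∈ compSet d, IsSimpleGroup (PerpQuot (compSet d) a) ∧
      ∃ x y : PerpQuot (compSet d) a, ¬ Commute x y := by
    intro a ha
    obtain ⟨k, rfl⟩ := transitive h hδ ha
    obtain ⟨κ, -⟩ := quot_conj h k δ
    refine ⟨(σ.trans κ).symm.isSimpleGroup_congr.mpr hM, ?_⟩
    obtain ⟨p, -, q, -, hpq⟩ := S.base.set.hyp.nc
    exact ⟨σ.trans κ p, σ.trans κ q, fun c => hpq (by simpa using c.map (σ.trans κ).symm)⟩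
  have hperp : ∀ a ∈ compSet d, (perp (compSet d) a).Nonempty := fun a ha => perp_nonempty g.hyp ha
  have Sg : Setting (compSet d) := ⟨h, g.hyp, g.tf, hperp,
    fun a ha => pCore_eq_bot_of_simple 2 (hq a ha).1 (hq a ha).2,
    fun a ha => pCore_eq_bot_of_simple 3 (hq a ha).1 (hq a ha).2⟩
  have h23 : IsOfTypeM23 (PerpQuot (compSet d) δ) (perpSet (compSet d) δ) := hσ ▸ m23_map σ S.typ
  have h24 := Spor.FischerThm.m23_case g Sg hδ h23
  exact ⟨h24, M24.base (Spor.FischerThm.good_isGroup g) g.primitive h24⟩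

end Data

end Cfsg.Agent.Block.M24Up
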