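import Cfsg.Agent.Lib.Block.FischerTypes.M24Up.Component
import Cfsg.Agent.Lib.Block.FischerTypes.M24Fact

/-!
The joined members are all conjugates of the involution, so the whole group has a class of 3-transpositions of
type M(24).
-/

set_option autoImplicit false
set_option linter.style.haveILetI false
set_option linter.unusedSectionVars false

namespace Cfsg.Agent.Block.M24Up

open Cfsg Cfsg.Agent.Spor.ThreeTrans Cfsg.Agent.Block.FischerTypes Relation

variable {X M : Type*} [Group X] [Group M] [Finite X] [Finite M]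
  {χ : X →* ℤˣ} {d : X} {ι : M →* X} {E : Set M} {e₀ : M}

namespace Data

variable (S : Data χ d ι E e₀)
include S

/-- The product of four commuting members is conjugate to no pair involution. -/
theorem four_ne {x₁ x₂ x₃ x₄ : X} (h₁ : IsConj d x₁) (h₂ : IsConj d x₂) (h₃ : IsConj d x₃) (h₄ : IsConj d x₄)
    (c12 : Commute x₁ x₂) (c13 : Commute x₁ x₃) (c14 : Commute x₁ x₄) (c23 : Commute x₂ x₃) (c24 : Commute x₂ x₄)
    (c34 : Commute x₃ x₄) (n12 : x₂ ≠ x₁) (n13 : x₃ ≠ x₁) (n14 : x₄ ≠ x₁) (n23 : x₂ ≠ x₃) (n24 : x₂ ≠ x₄)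
    (n34 : x₃ ≠ x₄) : ¬ IsConj (ι e₀) (x₁ * x₂ * x₃ * x₄) := by
  intro hc
  obtain ⟨g, rfl⟩ := isConj_iff.mp h₁
  obtain ⟨α, hα, rfl⟩ := S.near h₂ c12 n12
  obtain ⟨β, hβ, rfl⟩ := S.near h₃ c13 n13
  obtain ⟨γ, hγ, rfl⟩ := S.near h₄ c14 n14
  simp only [commute_conj_iff, S.eta_commute] at c23 c24 c34
  have hF : Fact' E 3 (α * β * γ) [α, β, γ] := by
    refine ⟨?_, rfl, by simp [hα, hβ, hγ], ?_, by simp [mul_assoc]⟩
    · simp only [List.nodup_cons, List.mem_cons, List.not_mem_nil, or_false, not_or, List.nodup_nil,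
        not_false_eq_true, and_true]
      exact ⟨⟨fun k => n23 (by rw [k]), fun k => n24 (by rw [k])⟩, fun k => n34 (by rw [k])⟩
    · simp only [List.mem_cons, List.not_mem_nil, or_false]
      rintro x (rfl | rfl | rfl) y (rfl | rfl | rfl)
      exacts [.refl _, c23, c24, c23.symm, .refl _, c34, c24.symm, c34.symm, .refl _]
  refine S.triple _ _ hF (hc.trans (isConj_iff.mpr ⟨g⁻¹, ?_⟩))
  rw [show g⁻¹ * (g * d * g⁻¹ * (g * (d * ι α) * g⁻¹) * (g * (d * ι β) * g⁻¹) * (g * (d * ι γ) * g⁻¹)) * g⁻¹⁻¹ =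
    d * (d * ι α) * (d * ι β * (d * ι γ)) by group, S.d_mul_eta, S.eta_mul, ← map_mul, mul_assoc α]

/-- Every conjugate of the involution is joined to it. -/
theorem comp_all {t : X} (ht : IsConj d t) : t ∈ comp d := by
  classical
  by_contra hn
  have napart : ∀ x ∈ comp d, ¬ Commute t x := fun x hx k => hn (comp_step hx ht k.symm)
  have hη := S.eta_comp S.mem
  obtain ⟨-, B⟩ := S.comp_type
  rcases S.dich' (IsConj.refl d) (S.eta_mem S.mem) ht (S.d_eta e₀) (S.eta_ne S.mem).symm with k | k | ⟨hne, hc⟩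
  · exact napart d (comp_self d) k
  · exact napart _ hη k
  obtain ⟨k, hk⟩ := isConj_iff.mp ht
  set s := d * (d * ι e₀) with hs
  have hss : s * s = 1 := by rw [hs, S.d_mul_eta, S.iota_sq S.mem]
  have hgD : IsConj d (s * t * s⁻¹) := conj_cls ht s
  -- the pair involution, moved to the involution
  set s' := k⁻¹ * s * k with hs'
  have hs'd : s' * d * s'⁻¹ ∈ comp d := by
    refine comp_step (comp_self d) (conj_cls (IsConj.refl d) s') ?_
    rw [← commute_conj_iff k, hk, show k * (s' * d * s'⁻¹) * k⁻¹ = s * (k * d * k⁻¹) * s⁻¹ by rw [hs']; group, hk]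
    exact hc
  have hmem := S.stab hs'd
  have hs'2 : orderOf s' = 2 := by
    rw [show s' = k⁻¹ * s * k⁻¹⁻¹ by rw [inv_inv], conj_order, hs, S.d_mul_eta, orderOf_injective ι S.inj]
    exact S.base.set.cls.1.1 e₀ S.mem
  have hconj : IsConj (ι e₀) s' := isConj_iff.mpr ⟨k⁻¹, by rw [hs', hs, S.d_mul_eta, inv_inv]⟩
  obtain ⟨m, h1, h4, l, hn', hlen, hm, hcc, hp⟩ := M24.invol_fact B
    ⟨⟨d, Subgroup.subset_closure (comp_self d)⟩, comp_self d⟩
    (x := (⟨s', hmem⟩ : ↥(compGroup d)))
    (by rw [← orderOf_injective (compGroup d).subtype Subtype.val_injective]; exact hs'2)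
  have hp' : (l.map fun x : ↥(compGroup d) => (x : X)).prod = s' := by
    have := congrArg (compGroup d).subtype hp
    rwa [map_list_prod] at this
  have hχ : ∀ L : List ↥(compGroup d), (∀ x ∈ L, x ∈ compSet d) →
      χ (L.map fun x : ↥(compGroup d) => (x : X)).prod = (-1) ^ L.length := by
    intro L
    induction L with
    | nil => simp
    | cons a L ih =>
      intro hL
      rw [List.map_cons, List.prod_cons, map_mul, S.chi_cls (comp_sub (hL a List.mem_cons_self)),
        ih fun x hx => hL x (List.mem_cons_of_mem _ hx), List.length_cons, pow_succ']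
  have hpar := hχ l hm
  rw [hp', hlen, hs', map_mul, map_mul, map_inv, hs, S.d_mul_eta, S.chi_iota, mul_one, inv_mul_cancel] at hpar
  interval_cases m
  · exact absurd hpar (by decide)
  · obtain ⟨⟨p, hpH⟩, ⟨q, hqH⟩, rfl⟩ := List.length_eq_two.mp hlen
    have hpc : p ∈ comp d := hm ⟨p, hpH⟩ (by simp)
    have hqc : q ∈ comp d := hm ⟨q, hqH⟩ (by simp)
    have hpq : Commute p q := congrArg Subtype.val (hcc ⟨p, hpH⟩ (by simp) ⟨q, hqH⟩ (by simp)).eq
    have hne' : p ≠ q := fun e => by subst e; simp at hn'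
    have hstd := S.std_of_commute (IsConj.refl d) (S.eta_mem S.mem) (S.d_eta e₀) (S.eta_ne S.mem).symm
    have hstd' := S.std_conj (S.std_of_commute (comp_sub hpc) (comp_sub hqc) hpq hne') k
    have e : d * (d * ι e₀) = k * p * k⁻¹ * (k * q * k⁻¹) := by
      rw [show k * p * k⁻¹ * (k * q * k⁻¹) = k * (p * q) * k⁻¹ by group, show p * q = s' by simpa using hp',
        hs', hs]
      group
    have hkp : k * p * k⁻¹ ∈ comp d := by
      rcases S.std_uniq hstd hstd' e with r | r <;> rw [r]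
      exacts [comp_self d, hη]
    refine hn ?_
    have := link_conj k hpc
    rw [hk] at this
    exact ReflTransGen.trans hkp (link_symm this)
  · exact absurd hpar (by decide)
  · obtain ⟨a, l', rfl⟩ : ∃ a l', l = a :: l' := by
      cases l with
      | nil => simp at hlen
      | cons a l' => exact ⟨a, l', rfl⟩
    obtain ⟨b, c, e, rfl⟩ := List.length_eq_three.mp (by simpa using hlen : l'.length = 3)
    simp only [List.nodup_cons, List.mem_cons, List.not_mem_nil, or_false, not_or, List.nodup_nil,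
      not_false_eq_true, and_true] at hn'
    obtain ⟨⟨nab, nac, nae⟩, ⟨nbc, nbe⟩, nce⟩ := hn'
    have cc : ∀ {x y : ↥(compGroup d)}, x ∈ [a, b, c, e] → y ∈ [a, b, c, e] → Commute (x : X) y :=
      fun hx hy => congrArg Subtype.val (hcc _ hx _ hy).eq
    refine S.four_ne (comp_sub (hm a (by simp))) (comp_sub (hm b (by simp))) (comp_sub (hm c (by simp)))
      (comp_sub (hm e (by simp))) (cc (by simp) (by simp)) (cc (by simp) (by simp)) (cc (by simp) (by simp))
      (cc (by simp) (by simp)) (cc (by simp) (by simp)) (cc (by simp) (by simp))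
      (fun k => nab (Subtype.ext k.symm)) (fun k => nac (Subtype.ext k.symm)) (fun k => nae (Subtype.ext k.symm))
      (fun k => nbc (Subtype.ext k)) (fun k => nbe (Subtype.ext k)) (fun k => nce (Subtype.ext k)) ?_
    rwa [show (a : X) * b * c * e = s' by rw [← hp']; simp [mul_assoc]]

/-- The group is of type M(24) with respect to the class of the involution. -/
theorem main :
    IsThreeTranspositionClass (conjugatesOf d) ∧ IsOfTypeM24 X (conjugatesOf d) := by
  have hH : compGroup d = ⊤ := eq_top_iff.mpr fun g _ => S.stab (S.comp_all (isConj_iff.mpr ⟨g, rfl⟩))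
  have hset : conjugatesOf d = comp d := Set.ext fun x => ⟨fun hx => S.comp_all hx, fun hx => comp_sub hx⟩
  let τ : ↥(compGroup d) ≃* X := (MulEquiv.subgroupCongr hH).trans Subgroup.topEquiv
  have himg : τ '' compSet d = conjugatesOf d := by
    rw [hset]
    ext x
    exact ⟨by rintro ⟨y, hy, rfl⟩; exact hy, fun hx => ⟨⟨x, Subgroup.subset_closure hx⟩, hx, rfl⟩⟩
  refine ⟨⟨?_, ⟨d, IsConj.refl d, rfl⟩, by rw [hset]; exact hH⟩, himg ▸ Spor.FischerThm.m24_map τ S.comp_type.1⟩
  obtain ⟨h1, h2⟩ := S.compSet_class.1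
  rw [← himg]
  constructor
  · rintro _ ⟨x, hx, rfl⟩
    rw [MulEquiv.orderOf_eq]
    exact h1 x hx
  · rintro _ ⟨x, hx, rfl⟩ _ ⟨y, hy, rfl⟩
    rw [← map_mul, ← map_pow, ← map_pow, MulEquiv.map_eq_one_iff, MulEquiv.map_eq_one_iff]
    exact h2 x hx y hy

end Data

end Cfsg.Agent.Block.M24Up
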