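import Cfsg.Agent.Lib.Block.FischerTypes.M24Up.Setup

/-!
Two commuting members of the class correspond to a member of the group of type M(23). So a member commuting with the
product of two commuting members commutes with both, and noncommuting members have a product of odd order.
-/

set_option autoImplicit false
set_option linter.style.haveILetI false
set_option linter.unusedSectionVars false

namespace Cfsg.Agent.Block.M24Up

open Cfsg Cfsg.Agent.Spor.ThreeTrans Cfsg.Agent.Block.FischerTypes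
open Cfsg.Agent.Block.M23Up (pair_split fact_pair)

/-- In a dihedral group the products of powers of the rotation with a reflection are conjugates of the two
reflections. -/
theorem dihedral_cls {G : Type*} [Group G] {x y : G} (hx : x * x = 1) (hy : y * y = 1) (k : ℕ) :
    IsConj x ((x * y) ^ (2 * k) * x) ∧ IsConj y ((x * y) ^ (2 * k + 1) * x) := by
  induction k with
  | zero =>
    refine ⟨by rw [Nat.mul_zero, pow_zero, one_mul], isConj_iff.mpr ⟨x, ?_⟩⟩
    rw [inv_eq_of_mul_eq_one_right hx]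
    simp
  | succ k ih =>
    have step : ∀ n, (x * y) ^ (n + 2) * x = x * y * ((x * y) ^ n * x) * (x * y)⁻¹ := fun n => by
      rw [pow_succ' _ (n + 1), pow_succ (x * y) n, mul_inv_rev, inv_eq_of_mul_eq_one_right hx,
        inv_eq_of_mul_eq_one_right hy]
      simp only [mul_assoc]
    exact ⟨by rw [show 2 * (k + 1) = 2 * k + 2 by ring, step]; exact ih.1.trans (isConj_iff.mpr ⟨x * y, rfl⟩),
      by rw [show 2 * (k + 1) + 1 = 2 * k + 1 + 2 by ring, step]; exact ih.2.trans (isConj_iff.mpr ⟨x * y, rfl⟩)⟩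

variable {X M : Type*} [Group X] [Group M] [Finite X] [Finite M]
  {χ : X →* ℤˣ} {d : X} {ι : M →* X} {E : Set M} {e₀ : M}

namespace Data

variable (S : Data χ d ι E e₀)
include S

omit S in
theorem conj_order {G : Type*} [Group G] {g y : G} : orderOf (g * y * g⁻¹) = orderOf y :=
  (MulAut.conj g).orderOf_eq y

/-- The element exchanging the involution with the member at `e₀` carries the members next to `e₀` to such
members. -/
theorem swap_perp {g₀ : X} (hc : Commute g₀ (ι e₀)) (hg : g₀ * d * g₀⁻¹ = d * ι e₀) {f : M} (hf : f ∈ perp E e₀) :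
    ∃ u ∈ perp E e₀, g₀ * (d * ι f) * g₀⁻¹ = d * ι u := by
  classical
  have h := S.base.set.cls
  have he0 := S.mem
  have hgx : g₀ * (d * ι e₀) * g₀⁻¹ = d := by
    rw [show g₀ * (d * ι e₀) * g₀⁻¹ = g₀ * d * g₀⁻¹ * (g₀ * ι e₀ * g₀⁻¹) by group, hg, conj_self_eq hc,
      mul_assoc, S.iota_sq he0, mul_one]
  have hgi : g₀⁻¹ * d * g₀ = d * ι e₀ := by
    nth_rw 1 [← hgx]
    group
  have hdw : Commute (g₀ * ι f * g₀⁻¹) d := by
    conv_rhs => rw [← hgx]
    rw [commute_conj_iff]
    exact (S.comm f).symm.mul_right (hf.2.2.symm.map ι)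
  obtain ⟨w, hw⟩ := S.inner hdw (by rw [S.chi_conj, S.chi_iota])
  have hwe : Commute w e₀ := by
    have : Commute (g₀ * ι f * g₀⁻¹) (g₀ * ι e₀ * g₀⁻¹) := (commute_conj_iff _ _ _).mpr (hf.2.2.symm.map ι)
    rw [hw, conj_self_eq hc] at this
    exact S.inj (by rw [map_mul, map_mul]; exact this)
  have hwf : orderOf w = 2 := by
    rw [← orderOf_injective ι S.inj, ← hw, conj_order, orderOf_injective ι S.inj]
    exact h.1.1 f hf.1
  have hx : g₀ * (d * ι f) * g₀⁻¹ = d * ι (e₀ * w) := by
    rw [show g₀ * (d * ι f) * g₀⁻¹ = g₀ * d * g₀⁻¹ * (g₀ * ι f * g₀⁻¹) by group, hg, hw, map_mul, mul_assoc]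
  have huw : e₀ * w ≠ e₀ := fun k => by
    rw [mul_eq_left.mp k, orderOf_one] at hwf
    omega
  suffices hu : e₀ * w ∈ E from ⟨_, ⟨hu, huw, (Commute.refl e₀).mul_right hwe.symm⟩, hx⟩
  have hstd : Std d ι E (d * ι e₀) (d * ι (e₀ * w)) := by
    rw [← hx, ← hg]
    exact S.std_conj (S.std_base.mpr ⟨f, hf.1, rfl⟩) g₀
  obtain ⟨m, h1, h3, l, hl⟩ := M23.invol_fact S.base S.nonempty hwf
  have hprod : d * ι e₀ * (d * ι (e₀ * w)) = ι w := by
    rw [S.eta_mul, ← mul_assoc, S.e_sq he0, one_mul]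
  interval_cases m
  · obtain ⟨a, rfl⟩ := List.length_eq_one_iff.mp hl.2.1
    obtain rfl : a = w := by simpa using hl.2.2.2.2
    rcases S.std_uniq hstd (S.std_base.mpr ⟨a, hl.2.2.1 a (by simp), rfl⟩)
        (by rw [hprod, S.d_mul_eta]) with k | k
    · exact absurd k.symm (S.eta_ne he0)
    · have : e₀ * a = 1 := S.inj (by rw [map_one]; exact mul_eq_left.mp k.symm)
      have e : a = e₀ := by rw [← inv_eq h.1 he0]; exact eq_inv_of_mul_eq_one_right this
      subst e
      refine absurd (S.inj ?_) hf.2.1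
      have := hw
      rw [← conj_self_eq hc] at this
      exact mul_left_cancel (mul_right_cancel this)
  · obtain ⟨p, q, rfl⟩ := List.length_eq_two.mp hl.2.1
    obtain ⟨hn, -, hm, hcc, hp⟩ := hl
    simp only [List.nodup_cons, List.mem_cons, List.not_mem_nil, or_false, not_false_eq_true, List.nodup_nil,
      and_true, List.prod_cons, List.prod_nil, mul_one] at hn hm hcc hp
    have hpq : q ∈ perp E p := ⟨hm q (Or.inr rfl), Ne.symm hn, hcc p (Or.inl rfl) q (Or.inr rfl)⟩
    have hpE : p ∈ E := hm p (Or.inl rfl)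
    subst hp
    by_cases ep : p = e₀
    · subst ep
      rw [mul_self_mul h.1 hpE]
      exact hpq.1
    by_cases eq : q = e₀
    · subst eq
      rw [hpq.2.2.eq, mul_self_mul h.1 hpq.1]
      exact hpE
    exfalso
    obtain ⟨c1, c2⟩ := pair_split S.base hpE hpq he0 hwe.symm
    have hP : p ∈ perp E e₀ := ⟨hpE, ep, c1⟩
    have hQ : q ∈ common E e₀ p := ⟨⟨hpq.1, eq, c2⟩, hpq⟩
    have hK := M23.counts S.base e₀ he0
    let T : Set M := {y | ∃ f' ∈ perp E e₀, g₀ * ι f' * g₀⁻¹ = ι y}
    have hT : T.ncard ≤ 3510 := by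
      rw [← M23.card_perp S.base he0 hK, ← Set.ncard_image_of_injective T S.inj]
      refine le_trans (Set.ncard_le_ncard ?_ (Set.toFinite _))
        (Set.ncard_image_le (f := fun f' => g₀ * ι f' * g₀⁻¹))
      rintro _ ⟨y, ⟨f', hf', e⟩, rfl⟩
      exact ⟨f', hf', e⟩
    let A : Finset (M × M) :=
      (perp E e₀).toFinite.toFinset.biUnion fun a => ({a} : Finset M) ×ˢ (common E e₀ a).toFinite.toFinset
    have hA : ∀ z, z ∈ A ↔ z.1 ∈ perp E e₀ ∧ z.2 ∈ common E e₀ z.1 := by
      rintro ⟨a, b⟩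
      simp [A, Finset.mem_product]
    have hcard : A.card = 3510 * 693 := by
      rw [Finset.card_biUnion]
      · rw [Finset.sum_congr rfl fun a ha => by
          rw [Finset.card_product, Finset.card_singleton, one_mul, ← Set.ncard_eq_toFinset_card,
            M23.card_common S.base he0 (by simpa using ha) hK], Finset.sum_const, smul_eq_mul,
          ← Set.ncard_eq_toFinset_card, M23.card_perp S.base he0 hK]
      · intro a _ b _ hab
        simp only [Function.onFun, Finset.disjoint_left, Finset.mem_product, Finset.mem_singleton]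
        exact fun z hz hz' => hab (hz.1.symm.trans hz'.1)
    have hmap : ∀ z ∈ A, z.1 * z.2 ∈ T.toFinite.toFinset := by
      intro z hz
      obtain ⟨h1', h2'⟩ := (hA z).mp hz
      obtain ⟨k, k0, k1, k2⟩ := M23.trans_three S.base he0 hP hQ he0 h1' h2'
      have kc : Commute k e₀ := mul_inv_eq_iff_eq_mul.mp k0
      have hk' : Commute (g₀⁻¹ * ι k * g₀) d := by
        rw [← commute_conj_iff g₀, show g₀ * (g₀⁻¹ * ι k * g₀) * g₀⁻¹ = ι k by group, hg]
        exact (S.comm k).symm.mul_right (kc.map ι)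
      obtain ⟨k', hk⟩ := S.inner hk' (by
        rw [map_mul, map_mul, map_inv, S.chi_iota, mul_one, inv_mul_cancel])
      have k'c : Commute k' e₀ := by
        have : Commute (g₀⁻¹ * ι k * g₀) (ι e₀) := ((hc.inv_left).mul_left (kc.map ι)).mul_left hc
        rw [hk] at this
        exact S.inj (by rw [map_mul, map_mul]; exact this)
      rw [Set.Finite.mem_toFinset]
      refine ⟨k' * f * k'⁻¹, ?_, ?_⟩
      · have := (conj_mem_perp h k' e₀).mpr hf
        rwa [conj_self_eq k'c] at this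
      · rw [← k1, ← k2, show k * p * k⁻¹ * (k * q * k⁻¹) = k * (p * q) * k⁻¹ by group, map_mul, map_mul,
          map_mul, map_mul, map_inv, map_inv, ← hw, ← hk]
        group
    have hfib : ∀ y ∈ T.toFinite.toFinset, (A.filter fun z => z.1 * z.2 = y).card ≤ 2 := by
      intro y _
      rcases (A.filter fun z => z.1 * z.2 = y).eq_empty_or_nonempty with e | ⟨z₀, hz₀⟩
      · rw [e]; simp
      rw [Finset.mem_filter, hA] at hz₀
      refine le_trans (Finset.card_le_card_of_injOn Prod.fst ?_ ?_) (show ({z₀.1, z₀.2} : Finset M).card ≤ 2 from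
        Finset.card_le_two)
      · intro z hz
        simp only [Finset.coe_filter, Set.mem_ofPred_eq] at hz
        rw [hA] at hz
        have e0 := fact_pair S.base hz₀.1.1.1 hz₀.1.2.2
        have e1 := fact_pair S.base hz.1.1.1 hz.1.2.2
        rw [hz₀.2] at e0
        rw [hz.2] at e1
        simpa using (pair_unique h S.base.set.tf e1 e0 z.1).mp (by simp)
      · intro z hz z' hz' e
        simp only [Finset.coe_filter, Set.mem_ofPred_eq] at hz hz'
        refine Prod.ext e (mul_left_cancel (a := z.1) ?_)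
        rw [hz.2]
        conv_lhs => rw [← hz'.2, ← e]
    have := Finset.card_le_mul_card_image_of_maps_to hmap 2 hfib
    rw [hcard, ← Set.ncard_eq_toFinset_card] at this
    omega
  · refine absurd ?_ (S.triple _ _ hl)
    obtain ⟨k, rfl⟩ := transitive h he0 hf.1
    refine isConj_iff.mpr ⟨g₀ * ι k, ?_⟩
    rw [← hw, map_mul, map_mul, map_inv]
    group

/-- Two commuting members of the group of type M(23) give a pair. -/
theorem eta_std {a b : M} (ha : a ∈ E) (hb : b ∈ perp E a) : Std d ι E (d * ι a) (d * ι b) := by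
  classical
  have h := S.base.set.cls
  obtain ⟨g₀, hc, hg⟩ := S.swap
  obtain ⟨k, rfl⟩ := transitive h S.mem ha
  have hb' : k⁻¹ * b * k ∈ perp E e₀ := by
    have := (conj_mem_perp h k⁻¹ (k * e₀ * k⁻¹)).mpr hb
    rw [inv_inv, show k⁻¹ * (k * e₀ * k⁻¹) * k = e₀ by group] at this
    exact this
  choose! φ hφ hφ' using fun f (hf : f ∈ perp E e₀) => S.swap_perp hc hg hf
  have hinj : Set.InjOn φ (perp E e₀) := fun x hx y hy e => by
    have := hφ' x hx
    rw [e, ← hφ' y hy] at this
    exact S.eta_inj (mul_left_cancel (mul_right_cancel this))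
  have himg : φ '' perp E e₀ = perp E e₀ := by
    refine Set.eq_of_subset_of_ncard_le (Set.image_subset_iff.mpr hφ) ?_ (Set.toFinite _)
    rw [Set.ncard_image_of_injOn hinj]
  rw [← himg] at hb'
  obtain ⟨f, hf, e⟩ := hb'
  have := S.std_conj (S.std_conj (S.std_base.mpr ⟨f, hf.1, rfl⟩) g₀) (ι k)
  rwa [hg, hφ' f hf, e, S.eta_conj, S.eta_conj, show k * (k⁻¹ * b * k) * k⁻¹ = b by group] at this

/-- A partner of a member next to the involution is next to it, or is it. -/
theorem std_near {e : M} (he : e ∈ E) {x : X} (h : Std d ι E (d * ι e) x) (hx : Commute d x) :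
    x = d ∨ Std d ι E d x := by
  obtain ⟨g₀, hc, hg⟩ := S.swap
  obtain ⟨k, rfl⟩ := transitive S.base.set.cls S.mem he
  obtain ⟨t, rfl⟩ : ∃ t, x = ι k * (g₀ * t * g₀⁻¹) * (ι k)⁻¹ :=
    ⟨g₀⁻¹ * ((ι k)⁻¹ * x * ι k) * g₀, by group⟩
  rw [← S.eta_conj, ← hg] at h
  have h' := S.std_conj (S.std_conj h (ι k)⁻¹) g₀⁻¹
  rw [show g₀⁻¹ * ((ι k)⁻¹ * (ι k * (g₀ * d * g₀⁻¹) * (ι k)⁻¹) * (ι k)⁻¹⁻¹) * g₀⁻¹⁻¹ = d by group,
    show g₀⁻¹ * ((ι k)⁻¹ * (ι k * (g₀ * t * g₀⁻¹) * (ι k)⁻¹) * (ι k)⁻¹⁻¹) * g₀⁻¹⁻¹ = t by group] at h'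
  obtain ⟨f, hf, rfl⟩ := S.std_base.mp h'
  have hgx : g₀ * (d * ι e₀) * g₀⁻¹ = d := by
    rw [show g₀ * (d * ι e₀) * g₀⁻¹ = g₀ * d * g₀⁻¹ * (g₀ * ι e₀ * g₀⁻¹) by group, hg, conj_self_eq hc,
      mul_assoc, S.iota_sq S.mem, mul_one]
  have hk : ι k * d * (ι k)⁻¹ = d := conj_self_eq (S.comm k).symm
  by_cases e : f = e₀
  · subst e
    exact Or.inl (by rw [hgx, hk])
  have hef : Commute e₀ f := by
    rw [← S.eta_commute, ← commute_conj_iff g₀, hgx, ← commute_conj_iff (ι k), hk]
    exact hx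
  obtain ⟨u, hu, e'⟩ := S.swap_perp hc hg ⟨hf, e, hef⟩
  exact Or.inr (S.std_base.mpr ⟨_, conj_mem S.base.set.cls k hu.1, by rw [e', S.eta_conj]⟩)

/-- Two commuting members of the class are a pair. -/
theorem std_of_commute {a x : X} (ha : IsConj d a) (hx : IsConj d x) (hc : Commute a x) (hne : a ≠ x) :
    Std d ι E a x := by
  classical
  obtain ⟨g, rfl⟩ := isConj_iff.mp ha
  suffices h : ∀ v, IsConj d v → Commute d v → v ≠ d → Std d ι E d v by
    have h' := h (g⁻¹ * x * g) (by simpa using conj_cls hx g⁻¹)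
      (by rw [← commute_conj_iff g, show g * (g⁻¹ * x * g) * g⁻¹ = x by group]; exact hc)
      fun k => hne (by rw [← k]; group)
    have := S.std_conj h' g
    rwa [show g * (g⁻¹ * x * g) * g⁻¹ = x by group] at this
  intro v hv hdv hvd
  have h := S.base.set.cls
  obtain ⟨y, rfl⟩ := S.outer hdv.symm (S.chi_cls hv)
  have hyy : y * y = 1 := S.inj (by rw [← S.eta_mul, S.sq hv, map_one])
  have hy1 : y ≠ 1 := fun k => hvd (by rw [k, map_one, mul_one])
  haveI : Fact (Nat.Prime 2) := ⟨Nat.prime_two⟩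
  obtain ⟨m, h1, h3, l, hn, hlen, hm, hcc, hp⟩ :=
    M23.invol_fact S.base S.nonempty (orderOf_eq_prime (by rw [pow_two, hyy]) hy1)
  rcases Nat.eq_or_lt_of_le h1 with rfl | hlt
  · obtain ⟨e, rfl⟩ := List.length_eq_one_iff.mp hlen
    exact S.std_base.mpr ⟨e, hm e (by simp), by rw [← hp]; simp⟩
  match l, hlen with
  | [], hlen => simp at hlen; omega
  | e1 :: rest, hlen =>
    have he1 : e1 ∈ E := hm e1 List.mem_cons_self
    rw [List.prod_cons] at hp
    have hey : e1 * y = rest.prod := by rw [← hp, mul_self_mul h.1 he1]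
    have hce : Commute e1 y := by
      rw [← hp]
      exact (Commute.refl e1).mul_right (Commute.list_prod_right _ _ fun z hz =>
        hcc e1 List.mem_cons_self z (List.mem_cons_of_mem _ hz))
    -- the conjugacy class of the shorter product, and its pair
    obtain ⟨hcls, hpair⟩ : IsConj (ι e₀) (ι (e1 * y)) ∧ ∃ A ∈ E, ∃ B', Std d ι E B' (d * ι A) ∧
        B' * (d * ι A) = ι (e1 * y) ∧ (B' = d ∨ ∃ e ∈ E, B' = d * ι e) := by
      rw [hey]
      have hlen' : rest.length = 1 ∨ rest.length = 2 := by simp at hlen; omega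
      rcases hlen' with k | k
      · obtain ⟨e2, rfl⟩ := List.length_eq_one_iff.mp k
        have he2 : e2 ∈ E := hm e2 (by simp)
        obtain ⟨q, rfl⟩ := transitive h S.mem he2
        refine ⟨isConj_iff.mpr ⟨ι q, by simp⟩, _, he2, d, S.std_base.mpr ⟨_, he2, rfl⟩, ?_, Or.inl rfl⟩
        rw [S.d_mul_eta]
        simp
      · obtain ⟨e2, e3, rfl⟩ := List.length_eq_two.mp k
        have hp23 : e3 ∈ perp E e2 := by
          refine ⟨hm e3 (by simp), fun k => ?_, hcc e2 (by simp) e3 (by simp)⟩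
          simp [k] at hn
        have hs := S.eta_std (hm e2 (by simp)) hp23
        refine ⟨?_, e3, hp23.1, _, hs, by rw [S.eta_mul]; simp, Or.inr ⟨e2, hm e2 (by simp), rfl⟩⟩
        have := S.std_prod hs
        rw [S.eta_mul] at this
        simpa using this
    obtain ⟨g, hg⟩ := isConj_iff.mp hv
    have hz : Commute (g⁻¹ * ι (e1 * y) * g) d := by
      rw [← commute_conj_iff g, show g * (g⁻¹ * ι (e1 * y) * g) * g⁻¹ = ι (e1 * y) by group, hg]
      exact (S.comm _).symm.mul_right ((hce.mul_left (Commute.refl y)).map ι)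
    obtain ⟨w, hw⟩ := S.inner hz (by rw [map_mul, map_mul, map_inv, S.chi_iota, mul_one, inv_mul_cancel])
    have hw' : ι (e1 * y) = g * ι w * g⁻¹ := by rw [← hw]; group
    have hcw : IsConj (ι e₀) (ι w) := hcls.trans (isConj_iff.mpr ⟨g⁻¹, by rw [inv_inv, hw]⟩)
    have hwo : orderOf w = 2 := by
      obtain ⟨q, hq⟩ := isConj_iff.mp hcw
      rw [← orderOf_injective ι S.inj, ← hq, conj_order, orderOf_injective ι S.inj]
      exact h.1.1 e₀ S.mem
    obtain ⟨m', h1', h3', l', hl'⟩ := M23.invol_fact S.base S.nonempty hwo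
    interval_cases m'
    · obtain ⟨a, rfl⟩ := List.length_eq_one_iff.mp hl'.2.1
      obtain rfl : a = w := by simpa using hl'.2.2.2.2
      have hs := S.std_conj (S.std_base.mpr ⟨a, hl'.2.2.1 a (by simp), rfl⟩) g
      rw [show g * (d * ι a) * g⁻¹ = g * d * g⁻¹ * (g * ι a * g⁻¹) by group, hg, ← hw'] at hs
      have e : d * ι y * ι (e1 * y) = d * ι e1 := by
        rw [mul_assoc, ← map_mul, ← mul_assoc, ← hce.eq, mul_assoc, hyy, mul_one]
      rw [e] at hs
      exact (S.std_near he1 (S.std_symm hs) hdv).resolve_left hvd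
    · obtain ⟨p, q, rfl⟩ := List.length_eq_two.mp hl'.2.1
      have hpq : q ∈ perp E p := ⟨hl'.2.2.1 q (by simp), fun k => by simpa [k] using hl'.1,
        hl'.2.2.2.1 p (by simp) q (by simp)⟩
      have hpE : p ∈ E := hl'.2.2.1 p (by simp)
      have hPQ := S.std_conj (S.eta_std hpE hpq) g
      have hPv := S.std_conj (S.std_symm (S.std_base.mpr ⟨p, hpE, rfl⟩)) g
      rw [hg] at hPv
      obtain ⟨A, hA, B', hs, hprod, hB'⟩ := hpair
      have heq : B' * (d * ι A) = g * (d * ι p) * g⁻¹ * (g * (d * ι q) * g⁻¹) := by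
        rw [hprod, hw', show g * (d * ι p) * g⁻¹ * (g * (d * ι q) * g⁻¹) =
          g * (d * ι p * (d * ι q)) * g⁻¹ by group, S.eta_mul, show p * q = w by simpa using hl'.2.2.2.2]
      rcases S.std_uniq hs hPQ heq with e | e
      · rw [e] at hPv
        rcases hB' with rfl | ⟨e2, he2, rfl⟩
        exacts [hPv, (S.std_near he2 hPv hdv).resolve_left hvd]
      · rw [e] at hPv
        exact (S.std_near hA hPv hdv).resolve_left hvd
    · exact absurd hcw (S.triple _ _ hl')

/-- A member commuting with the product of two commuting members commutes with them. -/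
theorem no_swap {a x b : X} (ha : IsConj d a) (hx : IsConj d x) (hb : IsConj d b) (hc : Commute a x) (hne : a ≠ x)
    (h : Commute b (a * x)) : Commute b a := by
  have hs := S.std_of_commute ha hx hc hne
  obtain ⟨g, rfl⟩ := isConj_iff.mp hb
  have hax : Commute (g * d * g⁻¹) x → Commute (g * d * g⁻¹) a := fun k => by
    have := h.mul_right k.inv_right
    rwa [mul_inv_cancel_right] at this
  have hz : Commute (g⁻¹ * (a * x) * g) d := by
    rw [← commute_conj_iff g, show g * (g⁻¹ * (a * x) * g) * g⁻¹ = a * x by group]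
    exact h.symm
  obtain ⟨w, hw⟩ := S.inner hz (by
    simp only [map_mul, map_inv, S.chi_cls ha, S.chi_cls hx]
    rw [show (-1 : ℤˣ) * -1 = 1 by decide, mul_one, inv_mul_cancel])
  have hw' : g * ι w * g⁻¹ = a * x := by rw [← hw]; group
  have hcw : IsConj (ι e₀) (ι w) :=
    (S.std_prod hs).trans (isConj_iff.mpr ⟨g⁻¹, by rw [inv_inv, hw]⟩)
  have hwo : orderOf w = 2 := by
    obtain ⟨q, hq⟩ := isConj_iff.mp hcw
    rw [← orderOf_injective ι S.inj, ← hq, conj_order, orderOf_injective ι S.inj]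
    exact S.base.set.cls.1.1 e₀ S.mem
  obtain ⟨m, h1, h3, l, hl⟩ := M23.invol_fact S.base S.nonempty hwo
  interval_cases m
  · obtain ⟨e, rfl⟩ := List.length_eq_one_iff.mp hl.2.1
    obtain rfl : e = w := by simpa using hl.2.2.2.2
    have hs' := S.std_conj (S.std_base.mpr ⟨e, hl.2.2.1 e (by simp), rfl⟩) g
    rcases S.std_uniq hs hs' (by
      rw [← hw', show g * d * g⁻¹ * (g * (d * ι e) * g⁻¹) = g * (d * (d * ι e)) * g⁻¹ by group,
        S.d_mul_eta]) with k | k
    · rw [k]
    · exact hax (by rw [k])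
  · obtain ⟨p, q, rfl⟩ := List.length_eq_two.mp hl.2.1
    have hpq : q ∈ perp E p := ⟨hl.2.2.1 q (by simp), fun k => by simpa [k] using hl.1,
      hl.2.2.2.1 p (by simp) q (by simp)⟩
    have hs' := S.std_conj (S.eta_std (hl.2.2.1 p (by simp)) hpq) g
    have hk : Commute (g * d * g⁻¹) (g * (d * ι p) * g⁻¹) := (commute_conj_iff _ _ _).mpr (S.d_eta p)
    rcases S.std_uniq hs hs' (by
      rw [← hw', show g * (d * ι p) * g⁻¹ * (g * (d * ι q) * g⁻¹) = g * (d * ι p * (d * ι q)) * g⁻¹ by group,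
        S.eta_mul, show p * q = w by simpa using hl.2.2.2.2]) with k | k
    · rwa [k] at hk
    · rw [k] at hk
      exact hax hk
  · exact absurd hcw (S.triple _ _ hl)

/-- The members next to a conjugate of the involution. -/
theorem near {g z : X} (hz : IsConj d z) (hc : Commute (g * d * g⁻¹) z) (hne : z ≠ g * d * g⁻¹) :
    ∃ e ∈ E, z = g * (d * ι e) * g⁻¹ := by
  have hs := S.std_conj (S.std_of_commute (isConj_iff.mpr ⟨g, rfl⟩) hz hc hne.symm) g⁻¹
  rw [show g⁻¹ * (g * d * g⁻¹) * g⁻¹⁻¹ = d by group] at hs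
  obtain ⟨e, he, e'⟩ := S.std_base.mp hs
  exact ⟨e, he, by rw [← e']; group⟩

/-- Members at one member: a member commuting with a product of three commuting ones commutes with them. -/
theorem world {u a b c f : X} (hu : IsConj d u) (ha : IsConj d a) (hb : IsConj d b) (hc : IsConj d c)
    (hf : IsConj d f) (au : Commute u a) (bu : Commute u b) (cu : Commute u c) (fu : Commute u f)
    (nau : a ≠ u) (nbu : b ≠ u) (ncu : c ≠ u) (nfu : f ≠ u) (hab : Commute a b) (hac : Commute a c)
    (hbc : Commute b c) (nab : a ≠ b) (nac : a ≠ c) (nbc : b ≠ c) (h : Commute f (a * b * c)) :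
    Commute f a ∧ Commute f b ∧ Commute f c := by
  obtain ⟨g, rfl⟩ := isConj_iff.mp hu
  obtain ⟨α, hα, rfl⟩ := S.near ha au nau
  obtain ⟨β, hβ, rfl⟩ := S.near hb bu nbu
  obtain ⟨γ, hγ, rfl⟩ := S.near hc cu ncu
  obtain ⟨φ, hφ, rfl⟩ := S.near hf fu nfu
  simp only [commute_conj_iff, S.eta_commute] at hab hac hbc ⊢
  rw [show g * (d * ι α) * g⁻¹ * (g * (d * ι β) * g⁻¹) * (g * (d * ι γ) * g⁻¹) =
      g * (d * ι α * (d * ι β) * (d * ι γ)) * g⁻¹ by group, commute_conj_iff, S.eta_mul,
    ← mul_assoc, ← (S.comm _).eq, mul_assoc, ← map_mul, S.eta_commute] at h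
  exact (commute_mul_three_iff S.base.set.cls.1 hα hβ hγ hφ (fun k => nab (by rw [k]))
    (fun k => nac (by rw [k])) (fun k => nbc (by rw [k])) hab hac hbc).mp h

/-- A member commuting with one of three commuting members and with their product commutes with all. -/
theorem second {a b c f : X} (hb : IsConj d b) (hc : IsConj d c) (hf : IsConj d f) (hbc : Commute b c)
    (nbc : b ≠ c) (h : Commute f a) (h' : Commute f (a * b * c)) : Commute f b ∧ Commute f c := by
  have k : Commute f (b * c) := by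
    have := h.inv_right.mul_right h'
    rwa [show a⁻¹ * (a * b * c) = b * c by group] at this
  exact ⟨S.no_swap hb hc hf hbc nbc k, S.no_swap hc hb hf hbc.symm nbc.symm (by rw [← hbc.eq]; exact k)⟩

/-- Noncommuting members have a product of odd order. -/
theorem odd_order {a b : X} (ha : IsConj d a) (hb : IsConj d b) (hab : ¬ Commute a b) :
    Odd (orderOf (a * b)) := by
  by_contra hodd
  obtain ⟨k, hk⟩ := Nat.not_odd_iff_even.mp hodd
  have hpos := orderOf_pos (a * b)
  set i := (a * b) ^ k with hi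
  have hi2 : i * i = 1 := by rw [hi, ← pow_add, ← hk]; exact pow_orderOf_eq_one _
  have hi1 : i ≠ 1 := pow_ne_one_of_lt_orderOf (by omega) (by omega)
  have hca : a * i * a⁻¹ = i := by
    rw [hi, ← conj_pow, show a * (a * b) * a⁻¹ = (a * b)⁻¹ by
      rw [mul_inv_rev, S.inv_cls ha, S.inv_cls hb, ← mul_assoc a a, S.sq ha, one_mul], inv_pow, ← hi]
    exact inv_eq_of_mul_eq_one_right hi2
  have hca' : Commute a i := mul_inv_eq_iff_eq_mul.mp hca
  have hcb : Commute b i := by
    have : Commute (a * b) i := (Commute.refl (a * b)).pow_right k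
    have := hca'.inv_left.mul_left this
    rwa [inv_mul_cancel_left] at this
  have hx : IsConj d (i * a) := by
    obtain ⟨j, hj⟩ := k.even_or_odd'
    obtain ⟨c1, c2⟩ := dihedral_cls (S.sq ha) (S.sq hb) j
    rw [hi]
    rcases hj with rfl | rfl
    exacts [ha.trans c1, hb.trans c2]
  refine hab (S.no_swap ha hx hb (hca'.mul_right (Commute.refl a)) (fun e => hi1 ?_) ?_).symm
  · exact mul_eq_right.mp e.symm
  · rw [show a * (i * a) = i by rw [← mul_assoc, hca'.eq, mul_assoc, S.sq ha, mul_one]]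
    exact hcb

/-- A member and a pair: it commutes with one of them, or with a third member making a triple with them, or with
its conjugate by their product. -/
theorem dich {a v f : X} (ha : IsConj d a) (hv : IsConj d v) (hf : IsConj d f) (hc : Commute a v) (hne : a ≠ v) :
    Commute f a ∨ Commute f v ∨
    (∃ w, IsConj d w ∧ Commute w a ∧ Commute w v ∧ w ≠ a ∧ w ≠ v ∧ Commute f (a * v * w) ∧
      ∀ h, Commute h f → Commute h (a * v) → Commute h w) ∨
    (a * v * f * (a * v)⁻¹ ≠ f ∧ Commute f (a * v * f * (a * v)⁻¹) ∧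
      ∀ h, Commute h f → Commute h (a * v) → Commute h (f * (a * v * f * (a * v)⁻¹))) := by
  set s := a * v with hs
  have hss : s * s = 1 := by
    rw [hs, ← mul_assoc, mul_assoc a v a, ← hc.eq, ← mul_assoc a a v, S.sq ha, one_mul, S.sq hv]
  have hsinv : s⁻¹ = s := inv_eq_of_mul_eq_one_right hss
  have hr : χ (s * f) = -1 := by
    rw [hs, map_mul, map_mul, S.chi_cls ha, S.chi_cls hv, S.chi_cls hf]
    decide
  obtain ⟨k, hk⟩ : Even (orderOf (s * f)) := by
    by_contra ho
    have := congrArg χ (pow_orderOf_eq_one (s * f))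
    rw [map_pow, hr, map_one, (Nat.not_even_iff_odd.mp ho).neg_one_pow] at this
    exact absurd this (by decide)
  have hpos := orderOf_pos (s * f)
  set i := (s * f) ^ k with hi
  have hi2 : i * i = 1 := by rw [hi, ← pow_add, ← hk]; exact pow_orderOf_eq_one _
  have hi1 : i ≠ 1 := pow_ne_one_of_lt_orderOf (by omega) (by omega)
  have hsi : Commute s i := by
    refine mul_inv_eq_iff_eq_mul.mp ?_
    rw [hi, ← conj_pow, show s * (s * f) * s⁻¹ = (s * f)⁻¹ by
      rw [mul_inv_rev s f, hsinv, S.inv_cls hf, ← mul_assoc s s, hss, one_mul], inv_pow, ← hi]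
    exact inv_eq_of_mul_eq_one_right hi2
  have hfi : Commute f i := by
    have : Commute (s * f) i := (Commute.refl (s * f)).pow_right k
    have := hsi.inv_left.mul_left this
    rwa [inv_mul_cancel_left] at this
  have hfs : (f * s) ^ k = i := by
    rw [show f * s = (s * f)⁻¹ by rw [mul_inv_rev s f, hsinv, S.inv_cls hf], inv_pow]
    exact inv_eq_of_mul_eq_one_right hi2
  have hall : ∀ h, Commute h f → Commute h s → Commute h i := fun h h1 h2 => (h2.mul_right h1).pow_right k
  obtain ⟨j, rfl | rfl⟩ := k.even_or_odd'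
  · -- the conjugate of `f`
    have hx : IsConj d (i * f) := by
      rw [← hfs]
      exact hf.trans (dihedral_cls (S.sq hf) hss j).1
    have hxc : Commute f (i * f) := hfi.mul_right (Commute.refl f)
    have hxne : f ≠ i * f := fun e => hi1 (mul_eq_right.mp e.symm)
    have hfx : f * (i * f) = i := by rw [← mul_assoc, hfi.eq, mul_assoc, S.sq hf, mul_one]
    rcases S.std_fix (S.std_of_commute hf hx hxc hxne) (g := s) (by rw [hfx]; exact hsi) with e | e
    · exact Or.inl (S.no_swap ha hv hf hc hne (mul_inv_eq_iff_eq_mul.mp e).symm)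
    · refine Or.inr (Or.inr (Or.inr ?_))
      rw [e, hfx]
      exact ⟨hxne.symm, hxc, hall⟩
  · -- the third member
    have hw : IsConj d (i * s) := by
      rw [hi]
      exact hf.trans (dihedral_cls hss (S.sq hf) j).2
    have hws : Commute (i * s) s := hsi.symm.mul_left (Commute.refl s)
    have hwa := S.no_swap ha hv hw hc hne hws
    have hwv := S.no_swap hv ha hw hc.symm hne.symm (by rw [← hc.eq]; exact hws)
    by_cases e1 : i * s = a
    · refine Or.inr (Or.inl ?_)
      have : i = v := by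
        rw [show i = i * s * s by rw [mul_assoc, hss, mul_one], e1, hs, ← mul_assoc, S.sq ha, one_mul]
      rwa [this] at hfi
    by_cases e2 : i * s = v
    · refine Or.inl ?_
      have : i = a := by
        rw [show i = i * s * s by rw [mul_assoc, hss, mul_one], e2, hs, ← mul_assoc, ← hc.eq, mul_assoc,
          S.sq hv, mul_one]
      rwa [this] at hfi
    refine Or.inr (Or.inr (Or.inl ⟨_, hw, hwa, hwv, e1, e2, ?_, fun h h1 h2 => (hall h h1 h2).mul_right h2⟩))
    rw [hsi.symm.eq, ← mul_assoc, hss, one_mul]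
    exact hfi

/-- In a square whose side has order three the opposite one has. -/
theorem square {a v f : X} (ha : IsConj d a) (hv : IsConj d v) (hf : IsConj d f) (hc : Commute a v)
    (h3 : a * f * a = f * a * f) (hfv : ¬ Commute f v) (hg : Commute f (a * v * f * (a * v)⁻¹)) :
    v * f * v = f * v * f := by
  have haa := S.sq ha
  have hvv := S.sq hv
  have hff := S.sq hf
  set ρ := f * v with hρ
  have hρi : ρ⁻¹ = v * f := by rw [hρ, mul_inv_rev, S.inv_cls hv, S.inv_cls hf]
  have hq : Commute a (ρ ^ 2 * f) := by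
    have e1 : f * (a * v * f * v * a) = a * v * f * v * a * f := by
      have := hg.eq
      simpa [mul_inv_rev, S.inv_cls ha, S.inv_cls hv, mul_assoc] using this
    show a * (ρ ^ 2 * f) = ρ ^ 2 * f * a
    rw [hρ, pow_two]
    calc a * (f * v * (f * v) * f)
        = a * (f * v * f) * (v * f) := by simp only [mul_assoc]
      _ = a * f * a * (a * v * f * v * a) * (a * f) := by
          simp only [mul_assoc, ← mul_assoc a a, haa, one_mul]
      _ = f * a * f * (a * v * f * v * a) * (a * f) := by rw [h3]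
      _ = f * a * (a * v * f * v * a * f) * (a * f) := by rw [mul_assoc (f * a) f, e1]
      _ = f * v * (f * v) * (a * f * a * f) := by simp only [mul_assoc, ← mul_assoc a a, haa, one_mul]
      _ = f * v * (f * v) * (f * a * f * f) := by rw [h3]
      _ = f * v * (f * v) * f * a := by simp only [mul_assoc, hff, mul_one]
  have hρ3 : Commute a (ρ ^ 3) := by
    have : ρ ^ 3 = ρ ^ 2 * f * v := by rw [pow_succ, hρ, mul_assoc]
    rw [this]
    exact hq.mul_right hc
  have hfρ : f * ρ ^ 3 * f⁻¹ = (ρ ^ 3)⁻¹ := by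
    rw [← conj_pow, ← inv_pow, hρi, hρ, S.inv_cls hf, ← mul_assoc f f v, hff, one_mul]
  have haρ : a * ρ ^ 3 * a⁻¹ = ρ ^ 3 := conj_self_eq hρ3
  have haρ' : a * (ρ ^ 3)⁻¹ * a⁻¹ = (ρ ^ 3)⁻¹ := conj_self_eq hρ3.inv_right
  have hfρ' : f * (ρ ^ 3)⁻¹ * f⁻¹ = ρ ^ 3 := by rw [← conj_inv, hfρ, inv_inv]
  have hsix : ρ ^ 3 = (ρ ^ 3)⁻¹ := by
    calc ρ ^ 3 = f * (a * (f * ρ ^ 3 * f⁻¹) * a⁻¹) * f⁻¹ := by rw [hfρ, haρ', hfρ']
      _ = f * a * f * ρ ^ 3 * (f * a * f)⁻¹ := by group
      _ = a * f * a * ρ ^ 3 * (a * f * a)⁻¹ := by rw [h3]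
      _ = a * (f * (a * ρ ^ 3 * a⁻¹) * f⁻¹) * a⁻¹ := by group
      _ = (ρ ^ 3)⁻¹ := by rw [haρ, hfρ, haρ']
  have hn := S.odd_order hf hv hfv
  have h6 : orderOf ρ ∣ 2 * 3 := orderOf_dvd_of_pow_eq_one (by
    rw [two_mul, pow_add]
    nth_rw 1 [hsix]
    exact inv_mul_cancel _)
  have hd : orderOf ρ ∣ 3 := (Nat.Coprime.dvd_mul_left (Nat.coprime_two_right.mpr hn)).mp h6
  have hρ1 := orderOf_dvd_iff_pow_eq_one.mp hd
  rw [pow_three, hρ] at hρ1
  have := eq_inv_of_mul_eq_one_left (a := f * v * f) (b := v * f * v) (by simpa [mul_assoc] using hρ1)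
  rw [this]
  simp only [mul_inv_rev, S.inv_cls hf, S.inv_cls hv, mul_assoc]

end Data

end Cfsg.Agent.Block.M24Up
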