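import Cfsg.Agent.Lib.Block.FischerTypes.M23Structure
import Cfsg.Agent.Lib.Block.FischerTypes.M23Order
import Cfsg.Agent.Lib.Block.FischerTypes.M23Up.Triple

/-!
An involution of a group with a sign map, outside the kernel, whose centraliser is the product with a group of
type M(23), such that a pair involution permutes one pair: the first facts about the class of the involution.
-/

set_option autoImplicit false
set_option linter.style.haveILetI false
set_option linter.unusedSectionVars false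

namespace Cfsg.Agent.Block.M24Up

open scoped commutatorElement
open Cfsg Cfsg.Agent.Spor.ThreeTrans Cfsg.Agent.Block.FischerTypes

/-- The inputs. -/
structure Data {X M : Type*} [Group X] [Group M] (χ : X →* ℤˣ) (d : X) (ι : M →* X) (E : Set M) (e₀ : M) :
    Prop where
  base : M23.Base E
  typ : IsOfTypeM23 M E
  mem : e₀ ∈ E
  inv : orderOf d = 2
  odd : χ d = -1
  inj : Function.Injective ι
  comm : ∀ y, Commute d (ι y)
  cover : ∀ g, Commute g d → ∃ y, g = ι y ∨ g = d * ι y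
  swap : ∃ g, Commute g (ι e₀) ∧ g * d * g⁻¹ = d * ι e₀
  fix : ∀ g, Commute g (ι e₀) → g * d * g⁻¹ = d ∨ g * d * g⁻¹ = d * ι e₀
  triple : ∀ y l, Fact' E 3 y l → ¬ IsConj (ι e₀) (ι y)

/-- `x` corresponds to a member of the group of type M(23) at `a`. -/
def Std {X M : Type*} [Group X] [Group M] (d : X) (ι : M →* X) (E : Set M) (a x : X) : Prop :=
  ∃ g, g * d * g⁻¹ = a ∧ ∃ e ∈ E, g * (d * ι e) * g⁻¹ = x

variable {X M : Type*} [Group X] [Group M] [Finite X] [Finite M]
  {χ : X →* ℤˣ} {d : X} {ι : M →* X} {E : Set M} {e₀ : M}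

namespace Data

variable (S : Data χ d ι E e₀)
include S

theorem dd : d * d = 1 := by
  have h := pow_orderOf_eq_one d
  rwa [S.inv, pow_two] at h

theorem d_inv : d⁻¹ = d := inv_eq_of_mul_eq_one_right S.dd

theorem e_sq {e : M} (he : e ∈ E) : e * e = 1 := mul_self S.base.set.cls.1 he

theorem iota_sq {e : M} (he : e ∈ E) : ι e * ι e = 1 := by rw [← map_mul, S.e_sq he, map_one]

theorem nonempty : E.Nonempty := ⟨e₀, S.mem⟩

theorem perfect : commutator M = ⊤ := by
  haveI := M23.simple S.base S.nonempty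
  refine ((inferInstance : (commutator M).Normal).eq_bot_or_eq_top).resolve_left fun h => ?_
  obtain ⟨a, -, b, -, hab⟩ := S.base.set.hyp.nc
  have hm : ⁅a, b⁆ ∈ commutator M :=
    Subgroup.commutator_mem_commutator (Subgroup.mem_top a) (Subgroup.mem_top b)
  rw [h, Subgroup.mem_bot] at hm
  exact hab (commutatorElement_eq_one_iff_commute.mp hm)

theorem chi_iota (y : M) : χ (ι y) = 1 := by
  have h := Abelianization.commutator_subset_ker (χ.comp ι)
  rw [S.perfect] at h
  exact MonoidHom.mem_ker.mp (h (Subgroup.mem_top y))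

theorem chi_conj (g x : X) : χ (g * x * g⁻¹) = χ x := by
  rw [map_mul, map_mul, map_inv, mul_comm (χ g), mul_inv_cancel_right]

theorem chi_cls {x : X} (hx : IsConj d x) : χ x = -1 := by
  obtain ⟨g, rfl⟩ := isConj_iff.mp hx
  rw [S.chi_conj, S.odd]

theorem sq {x : X} (hx : IsConj d x) : x * x = 1 := by
  obtain ⟨g, rfl⟩ := isConj_iff.mp hx
  rw [show g * d * g⁻¹ * (g * d * g⁻¹) = g * (d * d) * g⁻¹ by group, S.dd, mul_one, mul_inv_cancel]

theorem inv_cls {x : X} (hx : IsConj d x) : x⁻¹ = x := inv_eq_of_mul_eq_one_right (S.sq hx)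

omit S in
theorem conj_cls {x : X} (hx : IsConj d x) (g : X) : IsConj d (g * x * g⁻¹) :=
  hx.trans (isConj_iff.mpr ⟨g, rfl⟩)

/-- An inner element commuting with the involution is in the group of type M(23). -/
theorem inner {g : X} (hg : Commute g d) (hχ : χ g = 1) : ∃ y, g = ι y := by
  obtain ⟨y, e | e⟩ := S.cover g hg
  · exact ⟨y, e⟩
  · rw [e, map_mul, S.odd, S.chi_iota, mul_one] at hχ
    exact absurd hχ (by decide)

theorem outer {g : X} (hg : Commute g d) (hχ : χ g = -1) : ∃ y, g = d * ι y := by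
  obtain ⟨y, e | e⟩ := S.cover g hg
  · rw [e, S.chi_iota] at hχ
    exact absurd hχ (by decide)
  · exact ⟨y, e⟩

theorem eta_mul (a b : M) : d * ι a * (d * ι b) = ι (a * b) := by
  rw [mul_assoc d, ← mul_assoc (ι a), ← (S.comm a).eq, mul_assoc d (ι a), ← mul_assoc, S.dd, one_mul, map_mul]

theorem eta_inj {a b : M} (h : d * ι a = d * ι b) : a = b := S.inj (mul_left_cancel h)

theorem eta_ne {e : M} (he : e ∈ E) : d * ι e ≠ d := fun h =>
  ne_one S.base.set.cls.1 he (S.inj (by rw [map_one]; exact mul_eq_left.mp h))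

theorem eta_commute {a b : M} : Commute (d * ι a) (d * ι b) ↔ Commute a b := by
  unfold Commute SemiconjBy
  rw [S.eta_mul, S.eta_mul]
  exact ⟨fun h => S.inj h, fun h => by rw [h]⟩

theorem d_eta (a : M) : Commute d (d * ι a) := (Commute.refl d).mul_right (S.comm a)

theorem d_mul_eta (a : M) : d * (d * ι a) = ι a := by rw [← mul_assoc, S.dd, one_mul]

theorem eta_conj (k a : M) : ι k * (d * ι a) * (ι k)⁻¹ = d * ι (k * a * k⁻¹) := by
  rw [← mul_assoc (ι k), ← (S.comm k).eq, map_mul, map_mul, map_inv]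
  group

theorem eta_mem {e : M} (he : e ∈ E) : IsConj d (d * ι e) := by
  obtain ⟨g, -, hg⟩ := S.swap
  obtain ⟨k, rfl⟩ := transitive S.base.set.cls S.mem he
  rw [← S.eta_conj, ← hg]
  exact isConj_iff.mpr ⟨ι k * g, by group⟩

theorem std_conj {a x : X} (h : Std d ι E a x) (g : X) : Std d ι E (g * a * g⁻¹) (g * x * g⁻¹) := by
  obtain ⟨k, rfl, e, he, rfl⟩ := h
  exact ⟨g * k, by group, e, he, by group⟩

theorem std_base {x : X} : Std d ι E d x ↔ ∃ e ∈ E, x = d * ι e := by
  constructor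
  · rintro ⟨g, hg, e, he, rfl⟩
    have hc : Commute g d := mul_inv_eq_iff_eq_mul.mp hg
    obtain ⟨k, rfl | rfl⟩ := S.cover g hc
    · exact ⟨_, conj_mem S.base.set.cls k he, S.eta_conj k e⟩
    · refine ⟨_, conj_mem S.base.set.cls k he, ?_⟩
      rw [show d * ι k * (d * ι e) * (d * ι k)⁻¹ = d * (ι k * (d * ι e) * (ι k)⁻¹) * d⁻¹ by group, S.eta_conj,
        (S.d_eta _).eq, mul_inv_cancel_right]
  · rintro ⟨e, he, rfl⟩
    exact ⟨1, by group, e, he, by group⟩

theorem std_symm {a x : X} (h : Std d ι E a x) : Std d ι E x a := by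
  obtain ⟨g, rfl, e, he, rfl⟩ := h
  refine S.std_conj ?_ g
  obtain ⟨k, rfl⟩ := transitive S.base.set.cls S.mem he
  obtain ⟨g₀, hc, hg⟩ := S.swap
  have h0 : Std d ι E (d * ι e₀) d := by
    refine ⟨g₀, hg, e₀, S.mem, ?_⟩
    rw [show g₀ * (d * ι e₀) * g₀⁻¹ = g₀ * d * g₀⁻¹ * (g₀ * ι e₀ * g₀⁻¹) by group, hg,
      conj_self_eq hc.eq, mul_assoc, S.iota_sq S.mem, mul_one]
  have := S.std_conj h0 (ι k)
  rwa [S.eta_conj, conj_self_eq (S.comm k).symm.eq] at this

theorem std_left {a x : X} (h : Std d ι E a x) : IsConj d a := by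
  obtain ⟨g, rfl, -⟩ := h
  exact isConj_iff.mpr ⟨g, rfl⟩

theorem std_normal {a x : X} (h : Std d ι E a x) :
    ∃ g, g * d * g⁻¹ = a ∧ g * (d * ι e₀) * g⁻¹ = x := by
  obtain ⟨g, rfl, e, he, rfl⟩ := h
  obtain ⟨k, rfl⟩ := transitive S.base.set.cls S.mem he
  refine ⟨g * ι k, ?_, ?_⟩
  · rw [show g * ι k * d * (g * ι k)⁻¹ = g * (ι k * d * (ι k)⁻¹) * g⁻¹ by group,
      conj_self_eq (S.comm k).symm.eq]
  · rw [show g * ι k * (d * ι e₀) * (g * ι k)⁻¹ = g * (ι k * (d * ι e₀) * (ι k)⁻¹) * g⁻¹ by group,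
      S.eta_conj]

theorem std_prod {a x : X} (h : Std d ι E a x) : IsConj (ι e₀) (a * x) := by
  obtain ⟨g, rfl, rfl⟩ := S.std_normal h
  refine isConj_iff.mpr ⟨g, ?_⟩
  rw [show g * d * g⁻¹ * (g * (d * ι e₀) * g⁻¹) = g * (d * d * ι e₀) * g⁻¹ by group, S.dd, one_mul]

/-- What centralises the product of a pair permutes it. -/
theorem std_fix {a x : X} (h : Std d ι E a x) {g : X} (hg : Commute g (a * x)) :
    g * a * g⁻¹ = a ∨ g * a * g⁻¹ = x := by
  obtain ⟨k, rfl, rfl⟩ := S.std_normal h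
  have hc : Commute (k⁻¹ * g * k) (ι e₀) := by
    rw [← commute_conj_iff k, show k * (k⁻¹ * g * k) * k⁻¹ = g by group,
      show k * ι e₀ * k⁻¹ = k * d * k⁻¹ * (k * (d * ι e₀) * k⁻¹) by
        rw [show k * d * k⁻¹ * (k * (d * ι e₀) * k⁻¹) = k * (d * d * ι e₀) * k⁻¹ by group, S.dd, one_mul]]
    exact hg
  rcases S.fix _ hc with e | e
  · exact Or.inl (by nth_rw 2 [← e]; group)
  · exact Or.inr (by rw [← e]; group)

/-- A pair is determined by its product. -/
theorem std_uniq {a x p q : X} (h : Std d ι E a x) (h' : Std d ι E p q) (e : a * x = p * q) :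
    p = a ∨ p = x := by
  obtain ⟨g, hga, hgx⟩ := S.std_normal h
  obtain ⟨k, hkp, hkq⟩ := S.std_normal h'
  have hc : Commute (k * g⁻¹) (a * x) := by
    refine mul_inv_eq_iff_eq_mul.mp ?_
    conv_rhs => rw [e, ← hkp, ← hkq]
    rw [← hga, ← hgx]
    group
  have := S.std_fix h hc
  rwa [show k * g⁻¹ * a * (k * g⁻¹)⁻¹ = p by rw [← hga, ← hkp]; group] at this

end Data

end Cfsg.Agent.Block.M24Up
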