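import Cfsg.Agent.Lib.Block.FischerTypes.M24Up.Pairs
import Mathlib.Combinatorics.SimpleGraph.DegreeSum

/-!
A member of the class commuting with the product of three commuting members commutes with each: otherwise the 693
members next to all three would carry a graph all of whose degrees are odd.
-/

set_option autoImplicit false
set_option linter.style.haveILetI false
set_option linter.unusedSectionVars false

namespace Cfsg.Agent.Block.M24Up

open Cfsg Cfsg.Agent.Spor.ThreeTrans Cfsg.Agent.Block.FischerTypes

/-- A finite set with a fixed-point-free involution has an even number of elements. -/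
theorem even_of_involution {α : Type*} [Finite α] (s : Set α) (σ : α → α) (h1 : ∀ x ∈ s, σ x ∈ s)
    (h2 : ∀ x ∈ s, σ x ≠ x) (h3 : ∀ x ∈ s, σ (σ x) = x) : Even s.ncard := by
  classical
  rw [← ZMod.natCast_eq_zero_iff_even, Set.ncard_eq_toFinset_card s s.toFinite, Finset.card_eq_sum_ones,
    Nat.cast_sum]
  refine Finset.sum_involution (fun x _ => σ x) (fun _ _ => ?_) (fun x hx _ => h2 x (by simpa using hx))
    (fun x hx => by simpa using h1 x (by simpa using hx)) (fun x hx => h3 x (by simpa using hx))
  rw [Nat.cast_one]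
  exact ZModModule.add_self _

variable {X M : Type*} [Group X] [Group M] [Finite X] [Finite M]
  {χ : X →* ℤˣ} {d : X} {ι : M →* X} {E : Set M} {e₀ : M}

namespace Data

variable (S : Data χ d ι E e₀)
include S

/-- At one member a product of three members is not one of two. -/
theorem world_ne {u a b c b' c' : X} (hu : IsConj d u) (ha : IsConj d a) (hb : IsConj d b) (hc : IsConj d c)
    (hb' : IsConj d b') (hc' : IsConj d c') (au : Commute u a) (bu : Commute u b) (cu : Commute u c)
    (bu' : Commute u b') (cu' : Commute u c') (nau : a ≠ u) (nbu : b ≠ u) (ncu : c ≠ u) (nbu' : b' ≠ u)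
    (ncu' : c' ≠ u) (hab : Commute a b) (hac : Commute a c) (hbc : Commute b c) (hbc' : Commute b' c')
    (nab : a ≠ b) (nac : a ≠ c) (nbc : b ≠ c) (nbc' : b' ≠ c') : a * b * c ≠ u * b' * c' := by
  intro h
  obtain ⟨g, rfl⟩ := isConj_iff.mp hu
  obtain ⟨α, hα, rfl⟩ := S.near ha au nau
  obtain ⟨β, hβ, rfl⟩ := S.near hb bu nbu
  obtain ⟨γ, hγ, rfl⟩ := S.near hc cu ncu
  obtain ⟨β', hβ', rfl⟩ := S.near hb' bu' nbu'
  obtain ⟨γ', hγ', rfl⟩ := S.near hc' cu' ncu'
  simp only [commute_conj_iff, S.eta_commute] at hab hac hbc hbc'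
  rw [show g * (d * ι α) * g⁻¹ * (g * (d * ι β) * g⁻¹) * (g * (d * ι γ) * g⁻¹) =
      g * (d * ι α * (d * ι β) * (d * ι γ)) * g⁻¹ by group,
    show g * d * g⁻¹ * (g * (d * ι β') * g⁻¹) * (g * (d * ι γ') * g⁻¹) =
      g * (d * (d * ι β' * (d * ι γ'))) * g⁻¹ by group, mul_left_inj, mul_right_inj, S.eta_mul, S.eta_mul,
    ← mul_assoc (ι _) d, ← (S.comm _).eq, mul_assoc, ← map_mul] at h
  have e : α * β * γ = β' * γ' := S.eta_inj h
  have h3 : Fact' E 3 (α * β * γ) [α, β, γ] := by
    refine ⟨?_, rfl, by simp [hα, hβ, hγ], ?_, by simp [mul_assoc]⟩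
    · simp only [List.nodup_cons, List.mem_cons, List.not_mem_nil, or_false, not_or, List.nodup_nil,
        not_false_eq_true, and_true]
      exact ⟨⟨fun k => nab (by rw [k]), fun k => nac (by rw [k])⟩, fun k => nbc (by rw [k])⟩
    · simp only [List.mem_cons, List.not_mem_nil, or_false]
      rintro x (rfl | rfl | rfl) y (rfl | rfl | rfl)
      exacts [.refl _, hab, hac, hab.symm, .refl _, hbc, hac.symm, hbc.symm, .refl _]
  have h2 := M23Up.fact_pair S.base hβ' (⟨hγ', fun k => nbc' (by rw [k]), hbc'⟩ : γ' ∈ perp E β')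
  rw [← e] at h2
  exact absurd (M23.fact_unique S.base (by norm_num) le_rfl (by norm_num) (by norm_num) h3 h2) (by norm_num)

/-- A member commuting with the product of three commuting members commutes with each. -/
theorem triangle {a b c f : X} (ha : IsConj d a) (hb : IsConj d b) (hc : IsConj d c) (hf : IsConj d f)
    (hab : Commute a b) (hac : Commute a c) (hbc : Commute b c) (nab : a ≠ b) (nac : a ≠ c) (nbc : b ≠ c)
    (h : Commute f (a * b * c)) : Commute f a ∧ Commute f b ∧ Commute f c := by
  classical
  have key : Commute f a := by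
    by_contra hfa
    have e1 : a * b * c = b * a * c := by rw [hab.eq]
    have e2 : a * b * c = c * a * b := by rw [mul_assoc c, ← (hac.mul_left hbc).eq]
    have hfb : ¬ Commute f b := fun k =>
      hfa (S.second ha hc hf hac nac k (e1 ▸ h)).1
    have hfc : ¬ Commute f c := fun k =>
      hfa (S.second ha hb hf hab nab k (e2 ▸ h)).1
    -- the members next to all three
    let U : Set X := {u | IsConj d u ∧ (u ≠ a ∧ u ≠ b ∧ u ≠ c) ∧ Commute u a ∧ Commute u b ∧ Commute u c}
    have hU : U.ncard = 693 := by
      obtain ⟨g, rfl⟩ := isConj_iff.mp ha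
      obtain ⟨eb, heb, rfl⟩ := S.near hb hab nab.symm
      obtain ⟨ec, hec, rfl⟩ := S.near hc hac nac.symm
      simp only [commute_conj_iff, S.eta_commute] at hbc
      have hp : ec ∈ perp E eb := ⟨hec, fun k => nbc (by rw [k]), hbc⟩
      have e : U = (fun e => g * (d * ι e) * g⁻¹) '' common E eb ec := by
        refine Set.Subset.antisymm ?_ ?_
        · rintro u ⟨hu, ⟨n1, n2, n3⟩, c1, c2, c3⟩
          obtain ⟨e, he, rfl⟩ := S.near hu c1.symm n1
          rw [commute_conj_iff, S.eta_commute] at c2 c3
          exact ⟨e, ⟨⟨he, fun k => n2 (by rw [k]), c2.symm⟩, ⟨he, fun k => n3 (by rw [k]), c3.symm⟩⟩, rfl⟩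
        · rintro _ ⟨e, ⟨⟨he, n2, c2⟩, ⟨-, n3, c3⟩⟩, rfl⟩
          refine ⟨conj_cls (S.eta_mem he) g, ⟨fun k => S.eta_ne he ?_, fun k => n2 ?_, fun k => n3 ?_⟩, ?_, ?_, ?_⟩
          · exact mul_left_cancel (mul_right_cancel k)
          · exact S.eta_inj (mul_left_cancel (mul_right_cancel k))
          · exact S.eta_inj (mul_left_cancel (mul_right_cancel k))
          · exact (commute_conj_iff _ _ _).mpr (S.d_eta e).symm
          · exact (commute_conj_iff _ _ _).mpr (S.eta_commute.mpr c2.symm)
          · exact (commute_conj_iff _ _ _).mpr (S.eta_commute.mpr c3.symm)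
      rw [e, Set.ncard_image_of_injective _ fun x y k => S.eta_inj (mul_left_cancel (mul_right_cancel k))]
      exact M23.card_common S.base heb hp (M23.counts S.base eb heb)
    have apartU : ∀ u ∈ U, ¬ Commute f u := fun u hu k =>
      hfa (S.world hu.1 ha hb hc hf hu.2.2.1 hu.2.2.2.1 hu.2.2.2.2 k.symm hu.2.1.1.symm hu.2.1.2.1.symm
        hu.2.1.2.2.symm (fun e => hfa (e ▸ hu.2.2.1)) hab hac hbc nab nac nbc h).1
    let N : X → Set X := fun u => {w ∈ U | u ≠ w ∧ Commute u w ∧ Commute f (a * u * w)}
    have hne : ∀ u ∈ U, (N u).Nonempty := by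
      rintro u ⟨hu, ⟨n1, n2, n3⟩, c1, c2, c3⟩
      have hfu := apartU u ⟨hu, ⟨n1, n2, n3⟩, c1, c2, c3⟩
      have hai : Commute (a * b * c) a :=
        ((Commute.refl a).mul_left hab.symm).mul_left hac.symm
      have his : Commute (a * b * c) (a * u) :=
        hai.mul_right ((c1.symm.mul_left c2.symm).mul_left c3.symm)
      rcases S.dich ha hu hf c1.symm n1.symm with k | k | ⟨w, hw, wa, wu, nwa, nwu, hfw, hall⟩ | ⟨hne, hfg, hall⟩
      · exact absurd k hfa
      · exact absurd k hfu
      · obtain ⟨wb, wc⟩ := S.second hb hc hw hbc nbc wa (hall _ h.symm his).symm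
        refine ⟨w, ⟨hw, ⟨nwa, ?_, ?_⟩, wa, wb, wc⟩, nwu.symm, wu.symm, hfw⟩
        · intro e
          subst e
          have e' : a * u * w * (a * w * c) = u * c := by
            calc a * u * w * (a * w * c) = a * u * a * (w * w) * c := by
                  simp only [mul_assoc]; rw [← mul_assoc w a, wa.eq, mul_assoc]
              _ = u * c := by rw [← c1.symm.eq.symm, mul_assoc u a a, S.sq ha, S.sq hw, mul_one, mul_one]
          exact hfu (S.no_swap hu hc hf c3 n3 (e' ▸ hfw.mul_right h))
        · intro e
          subst e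
          have e' : a * u * w * (a * b * w) = u * b := by
            calc a * u * w * (a * b * w) = a * u * (w * (a * b)) * w := by simp only [mul_assoc]
              _ = a * u * (a * b * w) * w := by rw [(wa.mul_right wb).eq]
              _ = a * u * a * b * (w * w) := by simp only [mul_assoc]
              _ = u * b := by rw [← c1.eq, mul_assoc u a a, S.sq ha, S.sq hw, mul_one, mul_one]
          exact hfu (S.no_swap hu hb hf c2 n2 (e' ▸ hfw.mul_right h))
      · exfalso
        set s := a * u with hs
        set g := s * f * s⁻¹ with hg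
        have hgD : IsConj d g := conj_cls hf s
        have hss : s * s = 1 := by
          rw [hs, ← mul_assoc, mul_assoc a u a, c1.eq, ← mul_assoc a a u, S.sq ha, one_mul, S.sq hu]
        have hjs : Commute (f * g) s := by
          refine (mul_inv_eq_iff_eq_mul.mp ?_ : Commute s (f * g)).symm
          rw [show s * (f * g) * s⁻¹ = g * (s * g * s⁻¹) by rw [hg]; group,
            show s * g * s⁻¹ = f by
              rw [hg, show s * (s * f * s⁻¹) * s⁻¹ = s * s * f * (s * s)⁻¹ by group, hss, inv_one, one_mul,
                mul_one], hfg.eq]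
        rcases S.std_fix (S.std_of_commute ha hu c1.symm n1.symm) (g := f * g) hjs with e | e
        · exact hfa (S.no_swap hf hgD ha hfg hne.symm (mul_inv_eq_iff_eq_mul.mp e).symm).symm
        set j := f * g with hj
        have hji : j * (a * b * c) * j⁻¹ = a * b * c := conj_self_eq (hall _ h.symm his).symm
        have cj : ∀ {x y : X}, Commute x y → Commute (j * x * j⁻¹) (j * y * j⁻¹) :=
          fun k => (commute_conj_iff j _ _).mpr k
        have inj : ∀ {x y : X}, j * x * j⁻¹ = j * y * j⁻¹ → x = y :=
          fun k => mul_left_cancel (mul_right_cancel k)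
        refine S.world_ne hu ha hb hc (conj_cls hb j) (conj_cls hc j) c1 c2 c3 (e ▸ cj hab) (e ▸ cj hac)
          n1.symm n2.symm n3.symm (fun k => nab (inj (k.trans e.symm)).symm)
          (fun k => nac (inj (k.trans e.symm)).symm) hab hac hbc (cj hbc) nab nac nbc (fun k => nbc (inj k)) ?_
        conv_lhs => rw [← hji]
        rw [← e]
        group
    have hodd : ∀ u ∈ U, Odd (N u).ncard := by
      intro u hu
      obtain ⟨w, hwU, nuw, cuw, hfw⟩ := hne u hu
      have hw : w ∈ N u := ⟨hwU, nuw, cuw, hfw⟩
      have hpair : ∀ x ∈ N u, x ≠ w → ¬ Commute w x := by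
        rintro x ⟨hxU, -, cux, hfx⟩ nxw k
        have hsw : Commute (a * u) w := hwU.2.2.1.symm.mul_left cuw
        have e' : a * u * w * (a * u * x) = w * x := by
          calc a * u * w * (a * u * x) = w * (a * u) * (a * u) * x := by
                rw [hsw.eq]; simp only [mul_assoc]
            _ = w * x := by
              rw [mul_assoc w, show a * u * (a * u) = 1 by
                rw [← mul_assoc, mul_assoc a u a, hu.2.2.1.eq, ← mul_assoc a a u, S.sq ha, one_mul, S.sq hu.1],
                mul_one]
        exact apartU w hwU (S.no_swap hwU.1 hxU.1 hf k nxw.symm (e' ▸ hfw.mul_right hfx))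
      have hev : Even (N u \ {w}).ncard := by
        refine even_of_involution _ (fun x => w * x * w⁻¹) ?_ ?_ ?_
        · rintro x ⟨⟨hxU, nux, cux, hfx⟩, nxw⟩
          have cw : ∀ {y : X}, Commute w y → w * y * w⁻¹ = y := fun k => conj_self_eq k
          have cc : ∀ {y : X}, Commute w y → Commute x y → Commute (w * x * w⁻¹) y := fun k k' => by
            rw [← cw k]; exact (commute_conj_iff w _ _).mpr k'
          have nn : ∀ {y : X}, Commute w y → x ≠ y → w * x * w⁻¹ ≠ y := fun k k' e' => by
            rw [← cw k] at e'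
            exact k' (mul_left_cancel (mul_right_cancel e'))
          refine ⟨⟨⟨conj_cls hxU.1 w, ⟨nn hwU.2.2.1 hxU.2.1.1, nn hwU.2.2.2.1 hxU.2.1.2.1,
            nn hwU.2.2.2.2 hxU.2.1.2.2⟩, cc hwU.2.2.1 hxU.2.2.1, cc hwU.2.2.2.1 hxU.2.2.2.1,
            cc hwU.2.2.2.2 hxU.2.2.2.2⟩, (nn cuw.symm nux.symm).symm, (cc cuw.symm cux.symm).symm, ?_⟩,
            nn (Commute.refl w) nxw⟩
          have hsw : Commute (a * u) w := hwU.2.2.1.symm.mul_left cuw
          have hsx : Commute (a * u) x := hxU.2.2.1.symm.mul_left cux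
          have h2 : a * u * (a * u) = 1 := by
            rw [← mul_assoc, mul_assoc a u a, hu.2.2.1.eq, ← mul_assoc a a u, S.sq ha, one_mul, S.sq hu.1]
          have e' : a * u * w * (a * u * x) * (a * u * w) = a * u * (w * x * w⁻¹) := by
            rw [S.inv_cls hwU.1]
            calc a * u * w * (a * u * x) * (a * u * w) = a * u * (w * (a * u)) * (x * (a * u)) * w := by
                  simp only [mul_assoc]
              _ = a * u * (a * u * w) * (a * u * x) * w := by rw [← hsw.eq, ← hsx.eq]
              _ = w * (a * u) * x * w := by rw [← mul_assoc (a * u) (a * u) w, h2, one_mul]; simp only [mul_assoc]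
              _ = a * u * (w * x * w) := by rw [← hsw.eq]; simp only [mul_assoc]
          exact e' ▸ (hfw.mul_right hfx).mul_right hfw
        · rintro x ⟨hx, nxw⟩ e'
          exact hpair x hx nxw (mul_inv_eq_iff_eq_mul.mp e')
        · intro x _
          rw [show w * (w * x * w⁻¹) * w⁻¹ = w * w * x * (w * w)⁻¹ by group, S.sq hwU.1, inv_one, one_mul, mul_one]
      rw [← Set.ncard_sdiff_singleton_add_one hw (Set.toFinite _)]
      exact hev.add_one
    -- parity
    let Γ : SimpleGraph ↥U :=
      { Adj := fun x y => (x : X) ≠ y ∧ Commute (x : X) y ∧ Commute f (a * x * y)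
        symm := ⟨fun x y k => ⟨k.1.symm, k.2.1.symm, by rw [mul_assoc, k.2.1.symm.eq, ← mul_assoc]; exact k.2.2⟩⟩
        loopless := ⟨fun x k => k.1 rfl⟩ }
    letI : Fintype ↥U := Fintype.ofFinite _
    have hdeg : ∀ x : ↥U, Odd (Γ.degree x) := fun x => by
      have e : N x = Subtype.val '' Γ.neighborSet x := by
        ext w
        constructor
        · rintro ⟨hw, k⟩
          exact ⟨⟨w, hw⟩, k, rfl⟩
        · rintro ⟨w, k, rfl⟩
          exact ⟨w.2, k⟩
      have := hodd x x.2
      rwa [e, Set.ncard_image_of_injective _ Subtype.val_injective, Set.ncard_eq_toFinset_card',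
        ← SimpleGraph.neighborFinset_def, SimpleGraph.card_neighborFinset_eq_degree] at this
    have := Γ.even_card_odd_degree_vertices
    rw [Finset.filter_true_of_mem fun x _ => hdeg x, Finset.card_univ, ← Nat.card_eq_fintype_card,
      Nat.card_coe_set_eq, hU] at this
    exact absurd this (by decide)
  exact ⟨key, S.second hb hc hf hbc nbc key h⟩

/-- A member and a pair: it commutes with one of them or with its conjugate by their product. -/
theorem dich' {a v f : X} (ha : IsConj d a) (hv : IsConj d v) (hf : IsConj d f) (hc : Commute a v) (hne : a ≠ v) :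
    Commute f a ∨ Commute f v ∨
      (a * v * f * (a * v)⁻¹ ≠ f ∧ Commute f (a * v * f * (a * v)⁻¹)) := by
  rcases S.dich ha hv hf hc hne with k | k | ⟨w, hw, wa, wv, nwa, nwv, hfw, -⟩ | ⟨hne', hfg, -⟩
  · exact Or.inl k
  · exact Or.inr (Or.inl k)
  · exact Or.inl (S.triangle ha hv hw hf hc wa.symm wv.symm hne nwa.symm nwv.symm hfw).1
  · exact Or.inr (Or.inr ⟨hne', hfg⟩)

end Data

end Cfsg.Agent.Block.M24Up
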